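import Mathlib.RingTheory.LittleWedderburn
import Mathlib.GroupTheory.PGroup
import Mathlib.GroupTheory.Commutator.Basic
import Mathlib.Algebra.Group.Commute.Basic
import Cfsg.Agent.Lib.LocalEvenB.Basic

/-!
# Actions on sections

The kernel of the action on a section, a stabiliser lemma for coprime elements, and the
commutativity of the commutant of an irreducible section.
-/

set_option autoImplicit false
set_option linter.all false

namespace CfsgLib.LocalEvenB.SubBlocks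

open Subgroup
open scoped commutatorElement

variable {G : Type*} [Group G]

/-- The elements normalising `U` and `U₀` and acting trivially on `U / U₀`. -/
def secKer (U U0 : Subgroup G) : Subgroup G where
  carrier := {g | g ∈ normalizer (U : Set G) ∧ g ∈ normalizer (U0 : Set G) ∧ ∀ u ∈ U, g * u * g⁻¹ * u⁻¹ ∈ U0}
  one_mem' := ⟨one_mem _, one_mem _, fun u hu => by simp⟩
  mul_mem' := fun {a b} ha hb => ⟨mul_mem ha.1 hb.1, mul_mem ha.2.1 hb.2.1, fun u hu => by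
    rw [show a * b * u * (a * b)⁻¹ * u⁻¹ = (a * (b * u * b⁻¹ * u⁻¹) * a⁻¹) * (a * u * a⁻¹ * u⁻¹) by group]
    exact mul_mem ((mem_normalizer_iff.1 ha.2.1 _).1 (hb.2.2 u hu)) (ha.2.2 u hu)⟩
  inv_mem' := fun {a} ha => ⟨inv_mem ha.1, inv_mem ha.2.1, fun u hu => by
    have h1 := ha.2.2 _ ((mem_normalizer_iff''.1 ha.1 u).1 hu)
    have h2 := (mem_normalizer_iff''.1 ha.2.1 _).1 (inv_mem h1)
    have e : a⁻¹ * (a * (a⁻¹ * u * a) * a⁻¹ * (a⁻¹ * u * a)⁻¹)⁻¹ * a = a⁻¹ * (a⁻¹ * u * a * u⁻¹) * a := by group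
    rw [e] at h2
    have h3 := (mem_normalizer_iff''.1 ha.2.1 (a⁻¹ * u * a * u⁻¹)).2 h2
    simpa using h3⟩

theorem mem_secKer {U U0 : Subgroup G} {g : G} : g ∈ secKer U U0 ↔
    g ∈ normalizer (U : Set G) ∧ g ∈ normalizer (U0 : Set G) ∧ ∀ u ∈ U, g * u * g⁻¹ * u⁻¹ ∈ U0 := Iff.rfl

/-- `g` inverts the section `U / U₀`. -/
def SecInv (U U0 : Subgroup G) (g : G) : Prop := ∀ u ∈ U, g * u * g⁻¹ * u ∈ U0

/-- `U / U₀` is irreducible for `F`. -/
def Irr (F U U0 : Subgroup G) : Prop :=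
  ∀ X : Subgroup G, U0 ≤ X → X ≤ U → F ≤ normalizer (X : Set G) → X = U0 ∨ X = U

theorem secKer_bot_le_centralizer (U : Subgroup G) : secKer U ⊥ ≤ centralizer (U : Set G) := by
  intro g hg
  refine mem_centralizer_iff.2 fun u hu => ?_
  have h1 := (mem_secKer.1 hg).2.2 u hu
  rw [mem_bot, mul_inv_eq_one, mul_inv_eq_iff_eq_mul] at h1
  exact h1.symm

theorem mem_secKer_bot {U : Subgroup G} {g : G} (hg : g ∈ centralizer (U : Set G)) : g ∈ secKer U ⊥ := by
  refine mem_secKer.2 ⟨centralizer_le_normalizer (U : Set G) hg, mem_normalizer_iff.2 fun h => by simp [mem_bot, conj_eq_one_iff], fun u hu => ?_⟩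
  rw [mem_bot, ← mem_centralizer_iff.1 hg u hu]
  group

/-- The kernel is normalised by the normalisers of the two terms. -/
theorem conj_mem_secKer {U U0 : Subgroup G} {n g : G} (hn : n ∈ normalizer (U : Set G))
    (hn0 : n ∈ normalizer (U0 : Set G)) (hg : g ∈ secKer U U0) : n * g * n⁻¹ ∈ secKer U U0 := by
  refine mem_secKer.2 ⟨mul_mem (mul_mem hn hg.1) (inv_mem hn), mul_mem (mul_mem hn0 hg.2.1) (inv_mem hn0),
    fun u hu => ?_⟩
  have h1 := (mem_normalizer_iff.1 hn0 _).1 (hg.2.2 _ ((mem_normalizer_iff''.1 hn u).1 hu))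
  rwa [show n * g * n⁻¹ * u * (n * g * n⁻¹)⁻¹ * u⁻¹ = n * (g * (n⁻¹ * u * n) * g⁻¹ * (n⁻¹ * u * n)⁻¹) * n⁻¹ by group]

theorem commutator_mem_secKer {U U0 : Subgroup G} {n g : G} (hn : n ∈ normalizer (U : Set G))
    (hn0 : n ∈ normalizer (U0 : Set G)) (hg : g ∈ secKer U U0) : ⁅n, g⁆ ∈ secKer U U0 := by
  rw [commutatorElement_def]
  exact mul_mem (conj_mem_secKer hn hn0 hg) (inv_mem hg)

theorem SecInv.mul_mem_secKer {U U0 : Subgroup G} {a b : G} (ha : SecInv U U0 a) (hb : SecInv U U0 b)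
    (hUU0 : U ≤ normalizer (U0 : Set G))
    (haU : a ∈ normalizer (U : Set G)) (hbU : b ∈ normalizer (U : Set G))
    (haU0 : a ∈ normalizer (U0 : Set G)) (hbU0 : b ∈ normalizer (U0 : Set G)) : a * b ∈ secKer U U0 := by
  refine mem_secKer.2 ⟨mul_mem haU hbU, mul_mem haU0 hbU0, fun u hu => ?_⟩
  have h1 := (mem_normalizer_iff.1 haU0 _).1 (hb u hu)
  have h2 := ha u⁻¹ (inv_mem hu)
  -- `a b u b⁻¹ a⁻¹ u⁻¹ = (a (b u b⁻¹ u) a⁻¹) (a u⁻¹ a⁻¹ u⁻¹)`
  rw [show a * b * u * (a * b)⁻¹ * u⁻¹ = (a * (b * u * b⁻¹ * u) * a⁻¹) * (a * u⁻¹ * a⁻¹ * u⁻¹) by group]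
  exact mul_mem h1 h2

theorem SecInv.secKer_mul {U U0 : Subgroup G} {a g : G} (ha : SecInv U U0 a) (hg : g ∈ secKer U U0) :
    SecInv U U0 (g * a) := by
  intro u hu
  have h1 := (mem_normalizer_iff.1 hg.2.1 _).1 (ha u hu)
  have h2 := hg.2.2 u⁻¹ (inv_mem hu)
  rw [show g * a * u * (g * a)⁻¹ * u = (g * (a * u * a⁻¹ * u) * g⁻¹) * (g * u⁻¹ * g⁻¹ * u⁻¹⁻¹) by group]
  exact mul_mem h1 h2

theorem SecInv.pow_odd {U U0 : Subgroup G} {a : G} (ha : SecInv U U0 a)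
    (hUU0 : U ≤ normalizer (U0 : Set G))
    (haU : a ∈ normalizer (U : Set G)) (haU0 : a ∈ normalizer (U0 : Set G)) {m : ℕ} (hm : Odd m) :
    SecInv U U0 (a ^ m) := by
  obtain ⟨j, rfl⟩ := hm
  rw [pow_succ, pow_mul]
  exact ha.secKer_mul (pow_mem (by rw [pow_two]; exact ha.mul_mem_secKer ha hUU0 haU haU haU0 haU0) j)

/-- An inverted element of a section of odd order fixed by the inverting element is trivial. -/
theorem SecInv.fixed_mem {p : ℕ} {U U0 : Subgroup G} {a x : G} (ha : SecInv U U0 a) (hU : IsPGroup p U)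
    (hp : p.Coprime 2) (hUU0 : U ≤ normalizer (U0 : Set G)) (hx : x ∈ U) (hfix : a * x * a⁻¹ * x⁻¹ ∈ U0) : x ∈ U0 := by
  have h1 := mul_mem (inv_mem hfix) (ha x hx)
  rw [show (a * x * a⁻¹ * x⁻¹)⁻¹ * (a * x * a⁻¹ * x) = x ^ 2 by rw [pow_two]; group] at h1
  obtain ⟨k, hk⟩ := hU ⟨x, hx⟩
  have hk' : x ^ p ^ k = 1 := congrArg Subtype.val hk
  have hc : (p ^ k).Coprime 2 := hp.pow_left k
  obtain ⟨i, hi⟩ := exists_pow_eq_self_of_coprime (n := 2) (x := x) ((hc.coprime_dvd_left (orderOf_dvd_of_pow_eq_one hk')).symm)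
  rw [← hi]
  exact pow_mem h1 i

/-- A `p'`-element stabilising a series of a `p`-group centralises the quotient. -/
theorem coprime_stab {p : ℕ} {g : G} {A B C : Subgroup G} (hA : IsPGroup p A) (hBA : B ≤ A)
    (hBC : B ≤ normalizer (C : Set G)) (hg : (orderOf g).Coprime p) (h1 : g ∈ secKer A B)
    (h2 : g ∈ secKer B C) : g ∈ secKer A C := by
  refine mem_secKer.2 ⟨h1.1, h2.2.1, fun a ha => ?_⟩
  obtain ⟨c, hc⟩ : ∃ c, c = g * a * g⁻¹ * a⁻¹ := ⟨_, rfl⟩
  have hcB : c ∈ B := hc ▸ h1.2.2 a ha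
  rw [← hc]
  have key : ∀ n : ℕ, ∃ d ∈ C, g ^ n * a * (g ^ n)⁻¹ = d * c ^ n * a := by
    intro n
    induction n with
    | zero => exact ⟨1, one_mem _, by simp⟩
    | succ n ih =>
      obtain ⟨d, hd, e⟩ := ih
      obtain ⟨d', hd', e'⟩ : ∃ d' ∈ C, g * c ^ n * g⁻¹ = d' * c ^ n :=
        ⟨_, h2.2.2 _ (pow_mem hcB n), by group⟩
      refine ⟨g * d * g⁻¹ * d', mul_mem ((mem_normalizer_iff.1 h2.2.1 d).1 hd) hd', ?_⟩
      calc g ^ (n + 1) * a * (g ^ (n + 1))⁻¹ = g * (g ^ n * a * (g ^ n)⁻¹) * g⁻¹ := by rw [pow_succ']; group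
        _ = (g * d * g⁻¹) * (g * c ^ n * g⁻¹) * (g * a * g⁻¹) := by rw [e]; group
        _ = (g * d * g⁻¹) * (d' * c ^ n) * (c * a) := by rw [e', hc]; group
        _ = g * d * g⁻¹ * d' * c ^ (n + 1) * a := by rw [pow_succ c n]; simp only [mul_assoc]
  obtain ⟨d, hd, e⟩ := key (orderOf g)
  rw [pow_orderOf_eq_one, one_mul, inv_one, mul_one] at e
  have h3 : c ^ orderOf g = d⁻¹ := by
    have : d * c ^ orderOf g = 1 := mul_eq_right.1 e.symm
    exact (inv_eq_of_mul_eq_one_right this).symm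
  obtain ⟨k, hk⟩ := hA ⟨c, hBA hcB⟩
  have hk' : c ^ p ^ k = 1 := congrArg Subtype.val hk
  obtain ⟨i, hi⟩ := exists_pow_eq_self_of_coprime (n := orderOf g) (x := c)
    ((hg.pow_right k).coprime_dvd_right (orderOf_dvd_of_pow_eq_one hk'))
  rw [← hi, h3]
  exact pow_mem (inv_mem hd) i

/-- The group acting on a finite abelian irreducible section and commuting with the action acts
as an abelian group. -/
theorem commutator_le_secKer [Finite G] {E F U U0 : Subgroup G}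
    (hFU : F ≤ normalizer (U : Set G)) (hFU0 : F ≤ normalizer (U0 : Set G))
    (hEU : E ≤ normalizer (U : Set G)) (hEU0 : E ≤ normalizer (U0 : Set G))
    (hle : U0 ≤ U) (hUU0 : U ≤ normalizer (U0 : Set G)) (hab : ⁅U, U⁆ ≤ U0) (hirr : Irr F U U0)
    (hc : ⁅E, F⁆ ≤ secKer U U0) : ⁅E, E⁆ ≤ secKer U U0 := by
  by_cases hne : U0 = U
  · refine commutator_le.2 fun a ha b hb => ?_
    have hm : ⁅a, b⁆ ∈ E := by
      rw [commutatorElement_def]
      exact mul_mem (mul_mem (mul_mem ha hb) (inv_mem ha)) (inv_mem hb)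
    refine mem_secKer.2 ⟨hEU hm, hEU0 hm, fun u hu => ?_⟩
    rw [hne]
    exact mul_mem ((mem_normalizer_iff.1 (hEU hm) u).1 hu) (inv_mem hu)
  obtain ⟨N, hN⟩ : ∃ N, N = normalizer (U : Set G) ⊓ normalizer (U0 : Set G) := ⟨_, rfl⟩
  haveI hUn : (U0.subgroupOf U).Normal := (normal_subgroupOf_iff_le_normalizer hle).2 hUU0
  letI : CommGroup (↥U ⧸ U0.subgroupOf U) :=
    { (inferInstance : Group (↥U ⧸ U0.subgroupOf U)) with
      mul_comm := fun x y => by
        induction x using QuotientGroup.induction_on with | _ a =>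
        induction y using QuotientGroup.induction_on with | _ b =>
        rw [← QuotientGroup.mk_mul, ← QuotientGroup.mk_mul, QuotientGroup.eq, mem_subgroupOf]
        have h1 := hab (commutator_mem_commutator (inv_mem b.2) (inv_mem a.2))
        rw [commutatorElement_def] at h1
        simpa [mul_assoc] using h1 }
  let M := Additive (↥U ⧸ U0.subgroupOf U)
  let mk : ↥U → M := fun u => Additive.ofMul (u : ↥U ⧸ U0.subgroupOf U)
  have hmk : ∀ x : M, ∃ u, mk u = x := fun x => by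
    obtain ⟨u, hu⟩ := QuotientGroup.mk_surjective x.toMul
    exact ⟨u, by simp [mk, hu]⟩
  have hmk0 : ∀ u, mk u = 0 ↔ (u : G) ∈ U0 := fun u => by
    exact ofMul_eq_zero.trans ((QuotientGroup.eq_one_iff u).trans mem_subgroupOf)
  let act : ↥N → AddMonoid.End M := fun n =>
    MonoidHom.toAdditive (QuotientGroup.map (U0.subgroupOf U) (U0.subgroupOf U)
      (U.normalizerMonoidHom ⟨n, (hN ▸ n.2 : (n : G) ∈ normalizer (U : Set G) ⊓ normalizer (U0 : Set G)).1⟩).toMonoidHom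
      (fun u hu => mem_subgroupOf.2
        ((mem_normalizer_iff.1 (hN ▸ n.2 : (n : G) ∈ normalizer (U : Set G) ⊓ normalizer (U0 : Set G)).2 _).1 (mem_subgroupOf.1 hu))))
  have hact : ∀ (n : ↥N) (u : ↥U) (w : ↥U), (w : G) = n * u * (n : G)⁻¹ → act n (mk u) = mk w := by
    intro n u w hw
    show Additive.ofMul (QuotientGroup.mk _) = Additive.ofMul (QuotientGroup.mk _)
    congr 2
    exact Subtype.ext hw.symm
  have hconj : ∀ (n : ↥N) (u : ↥U), (n : G) * u * (n : G)⁻¹ ∈ U := fun n u =>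
    (mem_normalizer_iff.1 (hN ▸ n.2 : (n : G) ∈ normalizer (U : Set G) ⊓ normalizer (U0 : Set G)).1 _).1 u.2
  have hactmul : ∀ a b : ↥N, act (a * b) = act a * act b := by
    intro a b
    refine AddMonoidHom.ext fun x => ?_
    obtain ⟨u, rfl⟩ := hmk x
    show act (a * b) (mk u) = act a (act b (mk u))
    rw [hact b u ⟨_, hconj b u⟩ rfl, hact a _ ⟨_, hconj a ⟨_, hconj b u⟩⟩ rfl,
      hact (a * b) u ⟨_, hconj _ u⟩ rfl]
    congr 1
    apply Subtype.ext
    simp only [Subgroup.coe_mul]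
    group
  have hker : ∀ a b : ↥N, act a = act b → ((b : G)⁻¹ * a) ∈ secKer U U0 := by
    intro a b h
    obtain ⟨c, hc'⟩ : ∃ c : ↥N, c = b⁻¹ * a := ⟨_, rfl⟩
    have h1 : act c = act 1 := by
      rw [hc', hactmul, h, ← hactmul, inv_mul_cancel]
    have hcm := (hN ▸ c.2 : (c : G) ∈ normalizer (U : Set G) ⊓ normalizer (U0 : Set G))
    rw [show (b : G)⁻¹ * a = (c : G) by rw [hc']; rfl]
    refine mem_secKer.2 ⟨hcm.1, hcm.2, fun u hu => ?_⟩
    have h2 := DFunLike.congr_fun h1 (mk ⟨u, hu⟩)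
    rw [hact c ⟨u, hu⟩ ⟨_, hconj c ⟨u, hu⟩⟩ rfl, hact 1 ⟨u, hu⟩ ⟨u, hu⟩ (by simp)] at h2
    have h3 : mk (⟨_, hconj c ⟨u, hu⟩⟩ * ⟨u, hu⟩⁻¹) = 0 := by
      simp only [mk, QuotientGroup.mk_mul, QuotientGroup.mk_inv, ofMul_mul, ofMul_inv]
      exact (add_neg_eq_zero).2 h2
    exact (hmk0 _).1 h3
  let S : Set (AddMonoid.End M) := {φ | ∃ f : ↥N, (f : G) ∈ F ∧ φ = act f}
  let C := Subring.centralizer S
  haveI : Finite M := inferInstanceAs (Finite (↥U ⧸ U0.subgroupOf U))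
  haveI : Finite (AddMonoid.End M) := Finite.of_injective (fun φ : AddMonoid.End M => (φ : M → M)) DFunLike.coe_injective
  have hinj : ∀ φ : C, φ ≠ 0 → Function.Injective (φ : AddMonoid.End M) := by
    intro φ hφ
    let X : Subgroup G :=
      { carrier := {x | ∃ h : x ∈ U, (φ : AddMonoid.End M) (mk ⟨x, h⟩) = 0}
        one_mem' := ⟨one_mem _, by rw [(hmk0 _).2 (one_mem _), map_zero]⟩
        mul_mem' := by
          rintro x y ⟨hx, ex⟩ ⟨hy, ey⟩
          refine ⟨mul_mem hx hy, ?_⟩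
          rw [show mk ⟨x * y, mul_mem hx hy⟩ = mk ⟨x, hx⟩ + mk ⟨y, hy⟩ from rfl, map_add, ex, ey, add_zero]
        inv_mem' := by
          rintro x ⟨hx, ex⟩
          refine ⟨inv_mem hx, ?_⟩
          rw [show mk ⟨x⁻¹, inv_mem hx⟩ = -mk ⟨x, hx⟩ from rfl, map_neg, ex, neg_zero] }
    have h0X : U0 ≤ X := fun x hx => ⟨hle hx, by rw [(hmk0 _).2 hx, map_zero]⟩
    have hXU : X ≤ U := fun x hx => hx.1
    have hFX : F ≤ normalizer (X : Set G) := by
      intro f hf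
      refine CfsgLib.LocalEvenB.mem_normalizer_of_forall fun x ⟨hx, ex⟩ => ?_
      have hfN : f ∈ N := hN ▸ ⟨hFU hf, hFU0 hf⟩
      refine ⟨(mem_normalizer_iff.1 (hFU hf) x).1 hx, ?_⟩
      have hcomm := DFunLike.congr_fun (Subring.mem_centralizer_iff.1 φ.2 (act ⟨f, hfN⟩) ⟨⟨f, hfN⟩, hf, rfl⟩) (mk ⟨x, hx⟩)
      rw [AddMonoid.End.coe_mul, Function.comp_apply, AddMonoid.End.coe_mul, Function.comp_apply, ex, map_zero,
        hact ⟨f, hfN⟩ ⟨x, hx⟩ ⟨_, (mem_normalizer_iff.1 (hFU hf) x).1 hx⟩ rfl] at hcomm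
      exact hcomm.symm
    rcases hirr X h0X hXU hFX with h | h
    · refine (injective_iff_map_eq_zero _).2 fun x hx => ?_
      obtain ⟨⟨u, hu⟩, rfl⟩ := hmk x
      have : u ∈ X := ⟨hu, hx⟩
      rw [h] at this
      exact (hmk0 _).2 this
    · refine absurd (Subtype.ext (AddMonoidHom.ext fun x => ?_)) hφ
      obtain ⟨⟨u, hu⟩, rfl⟩ := hmk x
      exact (h.ge hu).2
  haveI : Nontrivial C := by
    obtain ⟨u, hu, hu0⟩ := SetLike.not_le_iff_exists.1 (fun h => hne (le_antisymm hle h))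
    refine ⟨⟨0, 1, fun h => hu0 ((hmk0 ⟨u, hu⟩).1 ?_)⟩⟩
    exact (DFunLike.congr_fun (congrArg Subtype.val h) (mk ⟨u, hu⟩)).symm
  haveI : NoZeroDivisors C := ⟨fun {a b} hab => by
    by_contra hcon
    push Not at hcon
    refine hcon.2 (Subtype.ext (AddMonoidHom.ext fun x => hinj a hcon.1 ?_))
    have := DFunLike.congr_fun (congrArg Subtype.val hab) x
    rw [Subring.coe_mul, AddMonoid.End.coe_mul, Function.comp_apply] at this
    exact this.trans (map_zero (a : AddMonoid.End M)).symm⟩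
  haveI : IsDomain C := NoZeroDivisors.to_isDomain C
  haveI : Finite C := inferInstance
  have hfield := Finite.isDomain_to_isField C
  have hEN : ∀ e ∈ E, e ∈ N := fun e he => hN ▸ ⟨hEU he, hEU0 he⟩
  have hEC : ∀ (e : G) (he : e ∈ E), act ⟨e, hEN e he⟩ ∈ C := by
    intro e he
    refine Subring.mem_centralizer_iff.2 ?_
    rintro _ ⟨f, hf, rfl⟩
    rw [← hactmul, ← hactmul]
    refine AddMonoidHom.ext fun x => ?_
    obtain ⟨u, rfl⟩ := hmk x
    obtain ⟨n, hn⟩ : ∃ n : ↥N, n = f * ⟨e, hEN e he⟩ * (⟨e, hEN e he⟩ * f)⁻¹ := ⟨_, rfl⟩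
    have hnK : (n : G) ∈ secKer U U0 := by
      have h1 := hc (commutator_mem_commutator he hf)
      have h2 := inv_mem h1
      rw [hn]
      simpa [commutatorElement_def, mul_assoc] using h2
    have h3 : f * ⟨e, hEN e he⟩ = n * (⟨e, hEN e he⟩ * f) := by rw [hn, inv_mul_cancel_right]
    rw [h3, hactmul]
    show act n (act (⟨e, hEN e he⟩ * f) (mk u)) = act (⟨e, hEN e he⟩ * f) (mk u)
    obtain ⟨w, hw⟩ := hmk (act (⟨e, hEN e he⟩ * f) (mk u))
    rw [← hw, hact n w ⟨_, hconj n w⟩ rfl]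
    have h4 : mk (⟨_, hconj n w⟩ * w⁻¹) = 0 := (hmk0 _).2 (hnK.2.2 w w.2)
    simp only [mk, QuotientGroup.mk_mul, QuotientGroup.mk_inv, ofMul_mul, ofMul_inv] at h4
    exact eq_of_sub_eq_zero (by rw [sub_eq_add_neg]; exact h4)
  refine commutator_le.2 fun a ha b hb => ?_
  have h := congrArg Subtype.val (hfield.mul_comm ⟨_, hEC a ha⟩ ⟨_, hEC b hb⟩)
  rw [Subring.coe_mul, Subring.coe_mul, ← hactmul, ← hactmul] at h
  have h1 := hker _ _ h
  -- `(b a)⁻¹ (a b)` conjugated by `b a` is the commutator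
  have h2 := conj_mem_secKer (mul_mem (hEU hb) (hEU ha)) (mul_mem (hEU0 hb) (hEU0 ha)) h1
  simpa [commutatorElement_def, mul_assoc] using h2

end CfsgLib.LocalEvenB.SubBlocks
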