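import Mathlib.Algebra.Module.ZMod
import Mathlib.LinearAlgebra.Matrix.ToLin
import Mathlib.GroupTheory.Abelianization.Defs
import Cfsg.Prelude.Def_BaumannBlocks
import Cfsg.Agent.Lib.LocalEvenB.BlockModule
import Cfsg.Agent.Lib.LocalEvenB.SubnormalBlocks.Section

/-!
# Sections with the natural `SL₂` action
-/

set_option autoImplicit false
set_option linter.all false

namespace CfsgLib.LocalEvenB.SubBlocks

open Subgroup Cfsg
open scoped commutatorElement

variable {G : Type*} [Group G]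

section Facts

theorem mem_commutator_sl23 {g : Matrix.SpecialLinearGroup (Fin 2) (ZMod 3)} :
    g ∈ commutator (Matrix.SpecialLinearGroup (Fin 2) (ZMod 3)) ↔ g ^ 4 = 1 := by
  constructor
  · let K : Subgroup (Matrix.SpecialLinearGroup (Fin 2) (ZMod 3)) :=
      { carrier := {g | g ^ 4 = 1}
        one_mem' := one_pow 4
        mul_mem' := by
          intro a b
          revert a b
          show ∀ a b : Matrix.SpecialLinearGroup (Fin 2) (ZMod 3), a ^ 4 = 1 → b ^ 4 = 1 → (a * b) ^ 4 = 1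
          decide +kernel
        inv_mem' := fun {a} (ha : a ^ 4 = 1) => show a⁻¹ ^ 4 = 1 by rw [inv_pow, ha, inv_one] }
    have h : commutator (Matrix.SpecialLinearGroup (Fin 2) (ZMod 3)) ≤ K := by
      rw [commutator_def, commutator_le]
      intro a _ b _
      show ⁅a, b⁆ ^ 4 = 1
      have h : ∀ a b : Matrix.SpecialLinearGroup (Fin 2) (ZMod 3), ⁅a, b⁆ ^ 4 = 1 := by decide +kernel
      exact h a b
    exact fun hg => h hg
  · intro hg
    have h : ∀ g : Matrix.SpecialLinearGroup (Fin 2) (ZMod 3), g ^ 4 = 1 →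
        ∃ a b : Matrix.SpecialLinearGroup (Fin 2) (ZMod 3), a * b * a⁻¹ * b⁻¹ = g := by decide +kernel
    obtain ⟨a, b, rfl⟩ := h g hg
    exact commutator_mem_commutator (mem_top a) (mem_top b)

theorem card_commutator_sl23 : Nat.card (commutator (Matrix.SpecialLinearGroup (Fin 2) (ZMod 3))) = 8 := by
  rw [Nat.card_congr (Equiv.subtypeEquivRight
    (q := fun g : Matrix.SpecialLinearGroup (Fin 2) (ZMod 3) => g ^ 4 = 1) fun g => mem_commutator_sl23),
    Nat.card_eq_fintype_card]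
  decide +kernel

theorem card_commutator_sl22 : Nat.card (commutator (Matrix.SpecialLinearGroup (Fin 2) (ZMod 2))) = 3 := by
  have hmem : ∀ g : Matrix.SpecialLinearGroup (Fin 2) (ZMod 2),
      g ∈ commutator (Matrix.SpecialLinearGroup (Fin 2) (ZMod 2)) ↔ g ^ 3 = 1 := by
    intro g
    constructor
    · let K : Subgroup (Matrix.SpecialLinearGroup (Fin 2) (ZMod 2)) :=
        { carrier := {g | g ^ 3 = 1}
          one_mem' := one_pow 3
          mul_mem' := by
            intro a b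
            revert a b
            show ∀ a b : Matrix.SpecialLinearGroup (Fin 2) (ZMod 2), a ^ 3 = 1 → b ^ 3 = 1 → (a * b) ^ 3 = 1
            decide +kernel
          inv_mem' := fun {a} (ha : a ^ 3 = 1) => show a⁻¹ ^ 3 = 1 by rw [inv_pow, ha, inv_one] }
      have h : commutator (Matrix.SpecialLinearGroup (Fin 2) (ZMod 2)) ≤ K := by
        rw [commutator_def, commutator_le]
        intro a _ b _
        show ⁅a, b⁆ ^ 3 = 1
        have h : ∀ a b : Matrix.SpecialLinearGroup (Fin 2) (ZMod 2), ⁅a, b⁆ ^ 3 = 1 := by decide +kernel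
        exact h a b
      exact fun hg => h hg
    · intro hg
      have h : ∀ g : Matrix.SpecialLinearGroup (Fin 2) (ZMod 2), g ^ 3 = 1 →
          ∃ a b : Matrix.SpecialLinearGroup (Fin 2) (ZMod 2), a * b * a⁻¹ * b⁻¹ = g := by decide +kernel
      obtain ⟨a, b, rfl⟩ := h g hg
      exact commutator_mem_commutator (mem_top a) (mem_top b)
  rw [Nat.card_congr (Equiv.subtypeEquivRight
    (q := fun g : Matrix.SpecialLinearGroup (Fin 2) (ZMod 2) => g ^ 3 = 1) fun g => hmem g),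
    Nat.card_eq_fintype_card]
  decide +kernel

/-- The derived group of `SL₂` is carried onto the derived group by a field isomorphism. -/
theorem map_commutator_sl2 {F K : Type*} [Field F] [Field K] (e : F ≃+* K) :
    (commutator (Matrix.SpecialLinearGroup (Fin 2) F)).map (Matrix.SpecialLinearGroup.map e.toRingHom) =
      commutator (Matrix.SpecialLinearGroup (Fin 2) K) := by
  have hs : Function.Surjective (Matrix.SpecialLinearGroup.map (n := Fin 2) e.toRingHom) := by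
    intro g
    refine ⟨Matrix.SpecialLinearGroup.map e.symm.toRingHom g, ?_⟩
    ext i j
    simp
  rw [commutator_def, commutator_def, map_commutator, map_top_of_surjective _ hs]

theorem nonempty_mulEquiv_commutator_sl2 {F K : Type*} [Field F] [Field K] (e : F ≃+* K) :
    Nonempty (↥(commutator (Matrix.SpecialLinearGroup (Fin 2) F)) ≃*
      ↥(commutator (Matrix.SpecialLinearGroup (Fin 2) K))) :=
  ⟨((commutator (Matrix.SpecialLinearGroup (Fin 2) F)).equivMapOfInjective _ (fun a b h => by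
      ext i j
      exact e.injective (congrFun (congrFun (congrArg Subtype.val h) i) j))).trans
    (MulEquiv.subgroupCongr (map_commutator_sl2 e))⟩

end Facts

/-- Change of the field along an isomorphism. -/
theorem acts_transfer {F K : Type*} [Field F] [Field K] (e : F ≃+* K) {E U U0 : Subgroup G}
    (h : ActsAsSL2OnSection F (commutator (Matrix.SpecialLinearGroup (Fin 2) F)) E U U0) :
    ActsAsSL2OnSection K (commutator (Matrix.SpecialLinearGroup (Fin 2) K)) E U U0 := by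
  obtain ⟨hn, hle, ρ, ψ, hρ, hψ, hk, hact⟩ := h
  let ε : (Fin 2 → F) →+ (Fin 2 → K) :=
    { toFun := fun v i => e (v i)
      map_zero' := funext fun i => map_zero e
      map_add' := fun v w => funext fun i => map_add e _ _ }
  refine ⟨hn, hle, (Matrix.SpecialLinearGroup.map e.toRingHom).comp ρ, (AddMonoidHom.toMultiplicative ε).comp ψ,
    ?_, ?_, ?_, ?_⟩
  · rw [MonoidHom.range_comp, hρ, map_commutator_sl2]
  · intro t
    obtain ⟨u, hu⟩ := hψ (Multiplicative.ofAdd fun i => e.symm (Multiplicative.toAdd t i))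
    refine ⟨u, Multiplicative.toAdd.injective (funext fun i => ?_)⟩
    show e (Multiplicative.toAdd (ψ u) i) = Multiplicative.toAdd t i
    rw [hu, toAdd_ofAdd, RingEquiv.apply_symm_apply]
  · intro u
    rw [← hk]
    constructor
    · intro hu
      refine Multiplicative.toAdd.injective (funext fun i => e.injective ?_)
      show e (Multiplicative.toAdd (ψ u) i) = e 0
      rw [map_zero]
      exact congrFun (congrArg Multiplicative.toAdd hu) i
    · intro hu
      rw [MonoidHom.comp_apply, hu, map_one]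
  · intro g u
    obtain ⟨w, hw, hwe⟩ := hact g u
    refine ⟨w, hw, funext fun i => ?_⟩
    show e (Multiplicative.toAdd (ψ w) i) = _
    rw [hwe]
    simp [Matrix.mulVec, dotProduct, ε]

section Sections

variable [Finite G] {F : Type*} [Field F] {R : Subgroup (Matrix.SpecialLinearGroup (Fin 2) F)}
  {E U U0 : Subgroup G}

theorem acts_normalizer_bot (h : ActsAsSL2OnSection F R E U U0) :
    E ≤ normalizer (U0 : Set G) ∧ U ≤ normalizer (U0 : Set G) ∧ ⁅U, U⁆ ≤ U0 := by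
  obtain ⟨hn, hle, ρ, ψ, hρ, hψ, hk, hact⟩ := h
  refine ⟨fun e he => mem_normalizer_of_forall fun x hx => ?_, ?_, ?_⟩
  · obtain ⟨w, hw, hwe⟩ := hact ⟨e, he⟩ ⟨x, hle hx⟩
    rw [(hk ⟨x, hle hx⟩).2 hx] at hwe
    have h1 : ψ w = 1 := Multiplicative.toAdd.injective (by rw [hwe]; simp)
    have h2 := (hk w).1 h1
    rwa [hw] at h2
  · intro v hv
    refine mem_normalizer_of_forall fun x hx => ?_
    refine (hk (⟨v, hv⟩ * ⟨x, hle hx⟩ * ⟨v, hv⟩⁻¹)).1 ?_
    rw [map_mul, map_mul, (hk ⟨x, hle hx⟩).2 hx, mul_one, map_inv, mul_inv_cancel]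
  · refine commutator_le.2 fun a ha b hb => ?_
    refine (hk ⁅(⟨a, ha⟩ : ↥U), (⟨b, hb⟩ : ↥U)⁆).1 ?_
    rw [map_commutatorElement, commutatorElement_eq_one_iff_mul_comm, mul_comm]

theorem acts_card (h : ActsAsSL2OnSection F R E U U0) : Nat.card U = Nat.card F ^ 2 * Nat.card U0 := by
  obtain ⟨hn, hle, ρ, ψ, hρ, hψ, hk, hact⟩ := h
  have hker : ψ.ker = U0.subgroupOf U := by
    ext u
    rw [MonoidHom.mem_ker, hk, mem_subgroupOf]
  have h1 := ψ.ker.card_mul_index
  rw [Subgroup.index_ker, MonoidHom.range_eq_top.2 hψ, Subgroup.card_top, hker,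
    Nat.card_congr (subgroupOfEquivOfLe hle).toEquiv, Nat.card_congr Multiplicative.toAdd, Nat.card_fun,
    Nat.card_fin] at h1
  rw [← h1, mul_comm]

theorem acts_irr [Finite F] (h : ActsAsSL2OnSection F (commutator (Matrix.SpecialLinearGroup (Fin 2) F)) E U U0) :
    Irr E U U0 := by
  obtain ⟨hn, hle, ρ, ψ, hρ, hψ, hk, hact⟩ := h
  intro X hX0 hXU hEX
  by_cases hX : X ≤ U0
  · exact Or.inl (le_antisymm hX hX0)
  refine Or.inr (le_antisymm hXU fun v hv => ?_)
  obtain ⟨u, hu, hu0⟩ := SetLike.not_le_iff_exists.1 hX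
  let XA : AddSubgroup (Fin 2 → F) := (Subgroup.map ψ (X.subgroupOf U)).toAddSubgroup'
  have hmem : ∀ t : Fin 2 → F, t ∈ XA ↔ ∃ x : ↥U, (x : G) ∈ X ∧ Multiplicative.toAdd (ψ x) = t := by
    intro t
    constructor
    · rintro ⟨x, hx, he⟩
      exact ⟨x, hx, by rw [he]; rfl⟩
    · rintro ⟨x, hx, he⟩
      exact ⟨x, hx, by rw [← he]; rfl⟩
  have htop : XA = ⊤ := by
    refine CfsgLib.LocalEvenB.sl2_commutator_irred XA (fun g hg t ht => ?_) ((hmem _).2 ⟨⟨u, hXU hu⟩, hu, rfl⟩) ?_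
    · rw [← hρ] at hg
      obtain ⟨e, rfl⟩ := hg
      obtain ⟨x, hx, rfl⟩ := (hmem t).1 ht
      obtain ⟨y, hy, hye⟩ := hact e x
      exact (hmem _).2 ⟨y, hy ▸ (mem_normalizer_iff.1 (hEX e.2) _).1 hx, hye⟩
    · intro h0
      exact hu0 ((hk _).1 (Multiplicative.toAdd.injective h0))
  obtain ⟨x, hx, he⟩ := (hmem (Multiplicative.toAdd (ψ ⟨v, hv⟩))).1 (htop ▸ AddSubgroup.mem_top _)
  have h1 : ψ (x⁻¹ * ⟨v, hv⟩) = 1 := by
    rw [map_mul, map_inv, Multiplicative.toAdd.injective he, inv_mul_cancel]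
  have h2 := X.mul_mem hx (hX0 ((hk _).1 h1))
  simpa using h2

theorem acts_kernel {p : ℕ} (h : ActsAsSL2OnSection F R E U U0)
    (hiso : Nonempty (↥E ⧸ pCore p ↥E ≃* ↥R)) (hQ : pCoreOf p E ≤ secKer U U0) :
    E ⊓ secKer U U0 ≤ pCoreOf p E := by
  have hN := (acts_normalizer_bot h).1
  obtain ⟨hn, hle, ρ, ψ, hρ, hψ, hk, hact⟩ := h
  obtain ⟨f⟩ := hiso
  have hker : ∀ e : ↥E, ρ e = 1 ↔ (e : G) ∈ secKer U U0 := by
    intro e
    constructor
    · intro he
      refine mem_secKer.2 ⟨hn e.2, hN e.2, fun u hu => ?_⟩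
      obtain ⟨w, hw, hwe⟩ := hact e ⟨u, hu⟩
      rw [he, Matrix.SpecialLinearGroup.coe_one, Matrix.one_mulVec] at hwe
      have h1 : ψ (w * (⟨u, hu⟩ : ↥U)⁻¹) = 1 := by
        rw [map_mul, map_inv, Multiplicative.toAdd.injective hwe, mul_inv_cancel]
      have h2 := (hk _).1 h1
      simpa [hw] using h2
    · intro he
      apply Subtype.ext
      ext i j
      classical
      obtain ⟨x, hx⟩ := hψ (Multiplicative.ofAdd (Pi.single j 1))
      obtain ⟨w, hw, hwe⟩ := hact e x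
      have h1 : ψ w = ψ x := by
        rw [← mul_inv_eq_one, ← map_inv, ← map_mul]
        refine (hk _).2 ?_
        rw [Subgroup.coe_mul, Subgroup.coe_inv, hw]
        exact (mem_secKer.1 he).2.2 x x.2
      rw [h1, hx, toAdd_ofAdd, Matrix.mulVec_single_one] at hwe
      have := congrFun hwe i
      simp only [Matrix.col_apply] at this
      rw [← this, Matrix.SpecialLinearGroup.coe_one, Matrix.one_apply, Pi.single_apply]
  have hle' : pCore p ↥E ≤ ρ.ker := fun q hq => (hker q).2 (hQ (mem_map_of_mem _ hq))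
  have hk' : ρ.ker ≤ pCore p ↥E := by
    haveI : Finite ↥R := Finite.of_equiv _ f.toEquiv
    refine (eq_of_le_of_card_ge hle' ?_).ge
    have h1 := ρ.ker.card_mul_index
    have h2 := (pCore p ↥E).card_mul_index
    rw [Subgroup.index_ker, hρ] at h1
    rw [Subgroup.index_eq_card, Nat.card_congr f.toEquiv] at h2
    exact (Nat.eq_of_mul_eq_mul_right Nat.card_pos (h1.trans h2.symm)).le
  exact fun e he => ⟨⟨e, he.1⟩, hk' ((hker ⟨e, he.1⟩).2 he.2), rfl⟩

end Sections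

section Quat

variable [Finite G] {E U U0 : Subgroup G}

/-- Matrices of the elements normalising a natural section over the field of order three. -/
theorem quat_data (h : ActsAsSL2OnSection (ZMod 3) (commutator (Matrix.SpecialLinearGroup (Fin 2) (ZMod 3))) E U U0) :
    ∃ mat : G → Matrix (Fin 2) (Fin 2) (ZMod 3),
      (∀ a b, a ∈ normalizer (U : Set G) → a ∈ normalizer (U0 : Set G) → b ∈ normalizer (U : Set G) →
        b ∈ normalizer (U0 : Set G) → mat (a * b) = mat a * mat b) ∧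
      (∀ g, g ∈ normalizer (U : Set G) → g ∈ normalizer (U0 : Set G) →
        (mat g = 1 ↔ g ∈ secKer U U0) ∧ (mat g = -1 ↔ SecInv U U0 g) ∧ mat g ≠ 0) ∧
      (∀ e ∈ E, mat e = 1 ∨ mat e = -1 ∨ mat e * mat e = -1) ∧
      (∀ A : Matrix (Fin 2) (Fin 2) (ZMod 3), A = 1 ∨ A = -1 ∨ A * A = -1 → ∃ e ∈ E, mat e = A) := by
  have hN := acts_normalizer_bot h
  obtain ⟨hn, hle, ρ, ψ, hρ, hψ, hk, hact⟩ := h
  classical
  obtain ⟨t, ht⟩ : ∃ t : ↥U → (Fin 2 → ZMod 3), t = fun u => Multiplicative.toAdd (ψ u) := ⟨_, rfl⟩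
  have htm : ∀ u v, t (u * v) = t u + t v := fun u v => by rw [ht]; simp [map_mul]
  have ht0 : ∀ u, t u = 0 ↔ (u : G) ∈ U0 := fun u => by
    rw [ht, ← hk]
    exact ⟨fun e => Multiplicative.toAdd.injective e, fun e => by simp [e]⟩
  have hts : ∀ v, ∃ u, t u = v := fun v => by
    obtain ⟨u, hu⟩ := hψ (Multiplicative.ofAdd v)
    exact ⟨u, by rw [ht]; simp [hu]⟩
  have heq : ∀ u v, t u = t v → (u : G) * (v : G)⁻¹ ∈ U0 := fun u v e => by
    have h1 : t (u * v⁻¹) = 0 := by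
      have h2 := htm (u * v⁻¹) v
      rw [inv_mul_cancel_right, e] at h2
      exact left_eq_add.1 (h2.trans (add_comm _ _)) 
    exact (ht0 _).1 h1
  have hex : ∀ g, g ∈ normalizer (U : Set G) ∧ g ∈ normalizer (U0 : Set G) →
      ∃ A : Matrix (Fin 2) (Fin 2) (ZMod 3), ∀ u w : ↥U, (w : G) = g * u * g⁻¹ → t w = A.mulVec (t u) := by
    intro g hg
    choose s hs using hts
    obtain ⟨c, hc⟩ : ∃ c : ↥U → ↥U, ∀ u, (c u : G) = g * u * g⁻¹ :=
      ⟨fun u => ⟨g * u * g⁻¹, (mem_normalizer_iff.1 hg.1 _).1 u.2⟩, fun u => rfl⟩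
    have hwell : ∀ u v, t u = t v → t (c u) = t (c v) := by
      intro u v e
      have h1 : t (c u * (c v)⁻¹) = 0 := by
        refine (ht0 _).2 ?_
        rw [Subgroup.coe_mul, Subgroup.coe_inv, hc, hc]
        simpa [mul_assoc] using (mem_normalizer_iff.1 hg.2 _).1 (heq u v e)
      have h2 := htm (c u * (c v)⁻¹) (c v)
      rwa [inv_mul_cancel_right, h1, zero_add] at h2
    have hcm : ∀ u v, c (u * v) = c u * c v := fun u v => Subtype.ext (by
      rw [Subgroup.coe_mul, hc, hc, hc, Subgroup.coe_mul]; group)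
    let φ : (Fin 2 → ZMod 3) →+ (Fin 2 → ZMod 3) := AddMonoidHom.mk' (fun v => t (c (s v))) fun a b => by
      rw [← htm, ← hcm]
      exact hwell _ _ (by rw [htm, hs, hs, hs])
    refine ⟨LinearMap.toMatrix' (φ.toZModLinearMap 3), fun u w hw => ?_⟩
    rw [LinearMap.toMatrix'_mulVec]
    show t w = t (c (s (t u)))
    rw [show w = c u from Subtype.ext (hw.trans (hc u).symm)]
    exact hwell _ _ (hs _).symm
  have hconj : ∀ g, g ∈ normalizer (U : Set G) → ∀ u : ↥U, ∃ w : ↥U, (w : G) = g * u * g⁻¹ := fun g hg u =>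
    ⟨⟨_, (mem_normalizer_iff.1 hg _).1 u.2⟩, rfl⟩
  have huniq : ∀ A B : Matrix (Fin 2) (Fin 2) (ZMod 3), (∀ u : ↥U, A.mulVec (t u) = B.mulVec (t u)) → A = B := by
    intro A B hAB
    refine Matrix.ext fun i j => ?_
    obtain ⟨u, hu⟩ := hts (Pi.single j 1)
    have := congrFun (hAB u) i
    simpa [hu, Matrix.mulVec_single_one] using this
  choose! mat hmat using hex
  have hmatE : ∀ e : ↥E, mat e = (ρ e : Matrix (Fin 2) (Fin 2) (ZMod 3)) := by
    intro e
    refine huniq _ _ fun u => ?_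
    obtain ⟨w, hw, hwe⟩ := hact e u
    rw [← hmat e ⟨hn e.2, hN.1 e.2⟩ u w hw, ht]
    exact hwe
  refine ⟨mat, fun a b ha ha0 hb hb0 => huniq _ _ fun u => ?_, fun g hg hg0 => ⟨?_, ?_, ?_⟩, ?_, ?_⟩
  · obtain ⟨v, hv⟩ := hconj b hb u
    obtain ⟨w, hw⟩ := hconj a ha v
    rw [← Matrix.mulVec_mulVec, ← hmat b ⟨hb, hb0⟩ u v hv, ← hmat a ⟨ha, ha0⟩ v w hw,
      hmat (a * b) ⟨mul_mem ha hb, mul_mem ha0 hb0⟩ u w (by rw [hw, hv]; group)]
  · constructor
    · intro e
      refine mem_secKer.2 ⟨hg, hg0, fun x hx => ?_⟩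
      obtain ⟨w, hw⟩ := hconj g hg ⟨x, hx⟩
      have h1 := hmat g ⟨hg, hg0⟩ ⟨x, hx⟩ w hw
      rw [e, Matrix.one_mulVec] at h1
      have h2 := heq _ _ h1
      rwa [hw] at h2
    · intro hgk
      refine huniq _ _ fun u => ?_
      obtain ⟨w, hw⟩ := hconj g hg u
      rw [← hmat g ⟨hg, hg0⟩ u w hw, Matrix.one_mulVec]
      have h1 : t (w * u⁻¹) = 0 := (ht0 _).2 (by rw [Subgroup.coe_mul, Subgroup.coe_inv, hw]; exact hgk.2.2 u u.2)
      have h2 := htm (w * u⁻¹) u
      rwa [inv_mul_cancel_right, h1, zero_add] at h2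
  · constructor
    · intro e x hx
      obtain ⟨w, hw⟩ := hconj g hg ⟨x, hx⟩
      have h1 := hmat g ⟨hg, hg0⟩ ⟨x, hx⟩ w hw
      rw [e, Matrix.neg_mulVec, Matrix.one_mulVec] at h1
      have h2 : t (w * ⟨x, hx⟩) = 0 := by rw [htm, h1, neg_add_cancel]
      have h3 := (ht0 _).1 h2
      rw [Subgroup.coe_mul, hw] at h3
      exact h3
    · intro hgi
      refine huniq _ _ fun u => ?_
      obtain ⟨w, hw⟩ := hconj g hg u
      rw [← hmat g ⟨hg, hg0⟩ u w hw, Matrix.neg_mulVec, Matrix.one_mulVec, eq_neg_iff_add_eq_zero, ← htm]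
      exact (ht0 _).2 (by rw [Subgroup.coe_mul, hw]; exact hgi u u.2)
  · intro h0
    obtain ⟨u, hu⟩ := hts (Pi.single 0 1)
    obtain ⟨w, hw⟩ := hconj g hg u
    have h1 := hmat g ⟨hg, hg0⟩ u w hw
    rw [h0, Matrix.zero_mulVec] at h1
    have h2 := (mem_normalizer_iff.1 hg0 _).2 (hw ▸ (ht0 w).1 h1)
    have h3 := congrFun ((ht0 u).2 h2) 0
    rw [hu, Pi.single_eq_same, Pi.zero_apply] at h3
    exact one_ne_zero h3
  · intro e he
    have h1 := mem_commutator_sl23.1 (hρ ▸ ⟨⟨e, he⟩, rfl⟩ : ρ ⟨e, he⟩ ∈ commutator _)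
    have hd : ∀ g : Matrix.SpecialLinearGroup (Fin 2) (ZMod 3), g ^ 4 = 1 →
        g.1 = 1 ∨ g.1 = -1 ∨ g.1 * g.1 = -1 := by decide +kernel
    rw [show mat e = _ from hmatE ⟨e, he⟩]
    exact hd _ h1
  · intro A hA
    have hd : ∀ A : Matrix (Fin 2) (Fin 2) (ZMod 3), A = 1 ∨ A = -1 ∨ A * A = -1 →
        ∃ g : Matrix.SpecialLinearGroup (Fin 2) (ZMod 3), g ^ 4 = 1 ∧ g.1 = A := by decide +kernel
    obtain ⟨g, hg, rfl⟩ := hd A hA
    have h1 := mem_commutator_sl23.2 hg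
    rw [← hρ] at h1
    obtain ⟨e, rfl⟩ := h1
    exact ⟨e, e.2, hmatE e⟩

variable (h : ActsAsSL2OnSection (ZMod 3) (commutator (Matrix.SpecialLinearGroup (Fin 2) (ZMod 3))) E U U0)
include h

theorem quat_trichotomy {e : G} (he : e ∈ E) : e ∈ secKer U U0 ∨ SecInv U U0 e ∨ SecInv U U0 (e * e) := by
  have hN := acts_normalizer_bot h
  obtain ⟨mat, hmul, hg, hE, -⟩ := quat_data h
  have hEn : E ≤ normalizer (U : Set G) := h.1
  rcases hE e he with hm | hm | hm
  · exact Or.inl ((hg e (hEn he) (hN.1 he)).1.1 hm)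
  · exact Or.inr (Or.inl ((hg e (hEn he) (hN.1 he)).2.1.1 hm))
  · exact Or.inr (Or.inr ((hg _ (hEn (mul_mem he he)) (hN.1 (mul_mem he he))).2.1.1
      (by rw [hmul e e (hEn he) (hN.1 he) (hEn he) (hN.1 he), hm])))

theorem quat_exhaust {g : G} (hgU : g ∈ normalizer (U : Set G)) (hgU0 : g ∈ normalizer (U0 : Set G))
    (hinv : SecInv U U0 (g * g) ∨ SecInv U U0 g) : ∃ e ∈ E, e⁻¹ * g ∈ secKer U U0 := by
  have hN := acts_normalizer_bot h
  obtain ⟨mat, hmul, hg, -, hex⟩ := quat_data h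
  have hEn : E ≤ normalizer (U : Set G) := h.1
  obtain ⟨e, he, hme⟩ := hex (mat g) (by
    rcases hinv with hi | hi
    · right; right
      rw [← hmul g g hgU hgU0 hgU hgU0]
      exact (hg _ (mul_mem hgU hgU) (mul_mem hgU0 hgU0)).2.1.2 hi
    · right; left
      exact (hg _ hgU hgU0).2.1.2 hi)
  refine ⟨e, he, (hg _ (mul_mem (inv_mem (hEn he)) hgU) (mul_mem (inv_mem (hN.1 he)) hgU0)).1.1 ?_⟩
  rw [hmul _ _ (inv_mem (hEn he)) (inv_mem (hN.1 he)) hgU hgU0, ← hme,
    ← hmul _ _ (inv_mem (hEn he)) (inv_mem (hN.1 he)) (hEn he) (hN.1 he), inv_mul_cancel]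
  exact (hg 1 (one_mem _) (one_mem _)).1.2 (one_mem _)

set_option synthInstance.maxSize 2048 in
set_option synthInstance.maxHeartbeats 100000 in
theorem quat_commutator {a b : G} (ha : a ∈ E) (hb : b ∈ E) : ⁅a, b⁆ ∈ secKer U U0 ∨ SecInv U U0 ⁅a, b⁆ := by
  have hN := acts_normalizer_bot h
  obtain ⟨mat, hmul, hg, hE, -⟩ := quat_data h
  have hEn : E ≤ normalizer (U : Set G) := h.1
  have hm : ⁅a, b⁆ ∈ E := by
    rw [commutatorElement_def]; exact mul_mem (mul_mem (mul_mem ha hb) (inv_mem ha)) (inv_mem hb)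
  have hd : ∀ x : Matrix (Fin 2) (Fin 2) (ZMod 3), (x = 1 ∨ x = -1 ∨ x * x = -1) →
      ∀ y : Matrix (Fin 2) (Fin 2) (ZMod 3), (y = 1 ∨ y = -1 ∨ y * y = -1) →
      ∀ c : Matrix (Fin 2) (Fin 2) (ZMod 3), c * (y * x) = x * y → c = 1 ∨ c = -1 := by decide +kernel
  rcases hd _ (hE a ha) _ (hE b hb) (mat ⁅a, b⁆) (by
    rw [← hmul b a (hEn hb) (hN.1 hb) (hEn ha) (hN.1 ha), ← hmul _ _ (hEn hm) (hN.1 hm) (hEn (mul_mem hb ha)) (hN.1 (mul_mem hb ha)),
      ← hmul a b (hEn ha) (hN.1 ha) (hEn hb) (hN.1 hb), commutatorElement_def]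
    congr 1
    group) with hc | hc
  · exact Or.inl ((hg _ (hEn hm) (hN.1 hm)).1.1 hc)
  · exact Or.inr ((hg _ (hEn hm) (hN.1 hm)).2.1.1 hc)

theorem quat_exists : ∃ a ∈ E, ∃ b ∈ E, SecInv U U0 ⁅a, b⁆ ∧ SecInv U U0 (a * a) := by
  have hN := acts_normalizer_bot h
  obtain ⟨mat, hmul, hg, hE, hex⟩ := quat_data h
  have hEn : E ≤ normalizer (U : Set G) := h.1
  obtain ⟨a, ha, hma⟩ := hex !![0, 1; -1, 0] (Or.inr (Or.inr (by decide)))
  obtain ⟨b, hb, hmb⟩ := hex !![1, 1; 1, -1] (Or.inr (Or.inr (by decide)))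
  have hm : ⁅a, b⁆ ∈ E := by
    rw [commutatorElement_def]; exact mul_mem (mul_mem (mul_mem ha hb) (inv_mem ha)) (inv_mem hb)
  have hd : ∀ c : Matrix (Fin 2) (Fin 2) (ZMod 3), c * (!![1, 1; 1, -1] * !![0, 1; -1, 0]) =
      !![0, 1; -1, 0] * !![1, 1; 1, -1] → c = -1 := by decide +kernel
  refine ⟨a, ha, b, hb, (hg _ (hEn hm) (hN.1 hm)).2.1.1 (hd _ ?_),
    (hg _ (hEn (mul_mem ha ha)) (hN.1 (mul_mem ha ha))).2.1.1 ?_⟩
  · rw [← hma, ← hmb, ← hmul b a (hEn hb) (hN.1 hb) (hEn ha) (hN.1 ha),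
      ← hmul _ _ (hEn hm) (hN.1 hm) (hEn (mul_mem hb ha)) (hN.1 (mul_mem hb ha)),
      ← hmul a b (hEn ha) (hN.1 ha) (hEn hb) (hN.1 hb), commutatorElement_def]
    congr 1
    group
  · rw [hmul a a (hEn ha) (hN.1 ha) (hEn ha) (hN.1 ha), hma]
    decide

theorem quat_scalar {g : G} (hgU : g ∈ normalizer (U : Set G)) (hgU0 : g ∈ normalizer (U0 : Set G))
    (hc : ∀ e ∈ E, ⁅g, e⁆ ∈ secKer U U0) : g ∈ secKer U U0 ∨ SecInv U U0 g := by
  have hN := acts_normalizer_bot h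
  obtain ⟨mat, hmul, hg, hE, hex⟩ := quat_data h
  have hEn : E ≤ normalizer (U : Set G) := h.1
  have hcom : ∀ A : Matrix (Fin 2) (Fin 2) (ZMod 3), A = 1 ∨ A = -1 ∨ A * A = -1 → mat g * A = A * mat g := by
    intro A hA
    obtain ⟨e, he, rfl⟩ := hex A hA
    have hk := hc e he
    have h1 := (hg _ hk.1 hk.2.1).1.2 hk
    rw [← hmul g e hgU hgU0 (hEn he) (hN.1 he), ← hmul e g (hEn he) (hN.1 he) hgU hgU0,
      show g * e = ⁅g, e⁆ * (e * g) by rw [commutatorElement_def]; group,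
      hmul _ _ hk.1 hk.2.1 (mul_mem (hEn he) hgU) (mul_mem (hN.1 he) hgU0), h1, one_mul]
  have hd : ∀ M : Matrix (Fin 2) (Fin 2) (ZMod 3), (∀ A : Matrix (Fin 2) (Fin 2) (ZMod 3), A * A = -1 → M * A = A * M) →
      M = 0 ∨ M = 1 ∨ M = -1 := by decide +kernel
  rcases hd (mat g) (fun A hA => hcom A (Or.inr (Or.inr hA))) with hm | hm | hm
  · exact absurd hm (hg g hgU hgU0).2.2
  · exact Or.inl ((hg g hgU hgU0).1.1 hm)
  · exact Or.inr ((hg g hgU hgU0).2.1.1 hm)

end Quat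

end CfsgLib.LocalEvenB.SubBlocks
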