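import Mathlib.GroupTheory.SpecificGroups.Alternating.Simple
import Mathlib.GroupTheory.SchurZassenhaus
import Cfsg.Agent.Lib.LocalEvenB.BlockLocation
import Cfsg.Agent.Lib.LocalEvenB.CharP
import Cfsg.Agent.Lib.LocalEven.Subnormal
import Cfsg.Agent.Lib.Components.Quasisimple
import Cfsg.Agent.Lib.Classical.SLGroup
import Cfsg.Agent.Lib.LocalEvenB.SubnormalBlocks.SL2Section

/-!
# Facts about a subnormal block
-/

set_option autoImplicit false
set_option linter.all false

namespace CfsgLib.LocalEvenB.SubBlocks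

open Subgroup Cfsg
open scoped commutatorElement

variable {G : Type*} [Group G]

/-- A block for some Sylow subgroup that is subnormal. -/
def IsSubBlock (p : ℕ) (E : Subgroup G) : Prop :=
  (∃ T : Sylow p G, IsBaumannBlock p (T : Subgroup G) E) ∧ E.IsSubnormal

/-- `Ω₁(Z(O_p(E)))`. -/
abbrev bW (p : ℕ) (E : Subgroup G) : Subgroup G := omegaOneCenter p (pCoreOf p E)

/-- The points of `W` fixed by the block. -/
abbrev bZ (p : ℕ) (E : Subgroup G) : Subgroup G := bW p E ⊓ centralizer (E : Set G)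

/-- The commutator module of the block. -/
abbrev bM (p : ℕ) (E : Subgroup G) : Subgroup G := ⁅bW p E, E⁆

/-- The two solvable types. -/
def IsSmallBlock (p : ℕ) (E : Subgroup G) : Prop :=
  (p = 2 ∧ Nat.card (↥E ⧸ pCore p ↥E) = 3 ∧ Nat.card (bW p E) = 4 * Nat.card (bZ p E) ∧
    pCoreOf p E = bW p E) ∨
  (p = 3 ∧ Nat.card (↥E ⧸ pCore p ↥E) = 8 ∧
    ActsAsSL2OnSection (ZMod 3) (commutator (Matrix.SpecialLinearGroup (Fin 2) (ZMod 3))) E (bW p E) (bZ p E) ∧
    (pCoreOf p E = bW p E ∨
      ActsAsSL2OnSection (ZMod 3) (commutator (Matrix.SpecialLinearGroup (Fin 2) (ZMod 3))) E (pCoreOf p E) (bW p E)))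

theorem sl2_quasisimple {F : Type*} [Field F] [Fintype F] (h : 4 ≤ Fintype.card F) :
    Cfsg.IsQuasisimple (Matrix.SpecialLinearGroup (Fin 2) F) ∧
      commutator (Matrix.SpecialLinearGroup (Fin 2) F) = ⊤ := by
  classical
  obtain ⟨a, -, ha⟩ : ∃ a ∈ (Finset.univ : Finset F), a ∉ ({0, 1, -1} : Finset F) := by
    apply Finset.exists_mem_notMem_of_card_lt_card
    rw [Finset.card_univ]
    exact lt_of_le_of_lt Finset.card_le_three h
  simp only [Finset.mem_insert, Finset.mem_singleton, not_or] at ha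
  have hperf : commutator (Matrix.SpecialLinearGroup (Fin 2) F) = ⊤ :=
    Matrix.SL2.commutator_eq_top ha.1 fun h => (sq_eq_one_iff.1 h).elim ha.2.1 ha.2.2
  exact ⟨⟨⟨hperf⟩, CfsgLib.Classical.isSimpleGroup_PSL_of_perfect hperf⟩, hperf⟩

variable [Finite G] {p : ℕ} [hp : Fact p.Prime] {E : Subgroup G}

theorem normalizer_le_bW (E : Subgroup G) : normalizer (E : Set G) ≤ normalizer (bW p E : Set G) :=
  (CfsgLib.LocalEven.normalizer_le_normalizer_pCoreOf E).trans (normalizer_le_normalizer_omegaOneCenter _)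

theorem normalizer_le_bZ (E : Subgroup G) : normalizer (E : Set G) ≤ normalizer (bZ p E : Set G) :=
  (le_inf (normalizer_le_bW E) (CfsgLib.Signalizer.normalizer_le_normalizer_centralizer_set E)).trans
    inf_normalizer_le_normalizer_inf

theorem normalizer_le_bM (E : Subgroup G) : normalizer (E : Set G) ≤ normalizer (bM p E : Set G) := by
  intro g hg
  refine mem_normalizer_of_forall fun x hx => ?_
  have h1 := mem_map_of_mem (MulAut.conj g).toMonoidHom hx
  rw [map_commutator, map_conj_eq_self_iff_mem_normalizer.2 (normalizer_le_bW E hg),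
    map_conj_eq_self_iff_mem_normalizer.2 hg] at h1
  exact h1

theorem bW_le (E : Subgroup G) : bW p E ≤ pCoreOf p E := (CfsgLib.PGroups.omegaOne_le _).trans inf_le_left

theorem bW_pGroup (E : Subgroup G) : IsPGroup p (bW p E) := (isPGroup_pCoreOf E).to_le (bW_le E)

theorem core_commutes_bW {q w : G} (hq : q ∈ pCoreOf p E) (hw : w ∈ bW p E) : q * w = w * q :=
  mem_centralizer_iff.1 (CfsgLib.PGroups.omegaOne_le _ hw).2 q hq

theorem core_le_normalizer_bW (E : Subgroup G) : pCoreOf p E ≤ normalizer (bW p E : Set G) :=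
  (pCoreOf_le E).trans (le_normalizer.trans (normalizer_le_bW E))

theorem core_le_normalizer_bZ (E : Subgroup G) : pCoreOf p E ≤ normalizer (bZ p E : Set G) :=
  (pCoreOf_le E).trans (le_normalizer.trans (normalizer_le_bZ E))

theorem bW_le_normalizer_bZ (E : Subgroup G) : bW p E ≤ normalizer (bZ p E : Set G) :=
  (bW_le E).trans (core_le_normalizer_bZ E)

theorem bW_commutator_le (E : Subgroup G) : ⁅bW p E, bW p E⁆ ≤ bZ p E :=
  commutator_le.2 fun a ha b hb => by
    rw [commutatorElement_eq_one_iff_mul_comm.2 (omegaOneCenter_comm ha hb)]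
    exact one_mem _

theorem core_le_secKer_WZ (E : Subgroup G) : pCoreOf p E ≤ secKer (bW p E) (bZ p E) := fun q hq =>
  mem_secKer.2 ⟨core_le_normalizer_bW E hq, core_le_normalizer_bZ E hq, fun w hw => by
    rw [core_commutes_bW hq hw, mul_inv_cancel_right, mul_inv_cancel]
    exact one_mem _⟩

section Block

variable {T : Subgroup G}

theorem block_gen (hE : IsBaumannBlock p T E) :
    Subgroup.closure {g : G | g ∈ E ∧ Nat.Coprime (orderOf g) p} = E :=
  closure_coprime_eq_of_pResidualOf hE.1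

theorem block_le_of_coprime (hE : IsBaumannBlock p T E) {X : Subgroup G}
    (h : ∀ g ∈ E, Nat.Coprime (orderOf g) p → g ∈ X) : E ≤ X := by
  rw [← block_gen hE, closure_le]
  exact fun g hg => h g hg.1 hg.2

theorem block_core_ne (hE : IsBaumannBlock p T E) : pCoreOf p E ≠ E := by
  intro h
  refine hE.2.2.2.1 (le_bot_iff.1 ((commutator_mono (block_le_of_coprime (X := ⊥) hE fun g hg hgc => ?_) le_rfl).trans
    (commutator_bot_left _).le))
  have hP : IsPGroup p E := h ▸ isPGroup_pCoreOf E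
  obtain ⟨k, hk⟩ := IsPGroup.iff_orderOf.1 hP ⟨g, hg⟩
  rw [Subgroup.orderOf_mk] at hk
  rw [mem_bot, ← orderOf_eq_one_iff]
  exact Nat.eq_one_of_dvd_coprimes (hgc.pow_right k) dvd_rfl hk.dvd

theorem block_irr_WZ (hE : IsBaumannBlock p T E) : Irr E (bW p E) (bZ p E) := by
  intro X hX0 hXW hEX
  by_cases h : ∃ x ∈ X, x ∉ centralizer (E : Set G)
  · obtain ⟨x, hx, hxc⟩ := h
    exact Or.inr ((block_module hE).2.1 X hX0 hXW hEX x hx hxc)
  · push Not at h
    exact Or.inl (le_antisymm (fun x hx => ⟨hXW hx, h x hx⟩) hX0)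

theorem block_kernel_WZ (hE : IsBaumannBlock p T E) : E ⊓ secKer (bW p E) (bZ p E) ≤ pCoreOf p E := by
  obtain ⟨K, hK⟩ : ∃ K, K = E ⊓ secKer (bW p E) (bZ p E) := ⟨_, rfl⟩
  rw [← hK]
  have hKE : K ≤ E := hK ▸ inf_le_left
  have hEK : E ≤ normalizer (K : Set G) := by
    rw [hK]
    exact (le_inf le_normalizer (fun e he => mem_normalizer_of_forall fun x hx =>
      conj_mem_secKer (normalizer_le_bW E (le_normalizer he)) (normalizer_le_bZ E (le_normalizer he)) hx)).trans
      inf_normalizer_le_normalizer_inf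
  refine le_pCoreOf hKE (fun ⟨x, hx⟩ => ?_) hEK
  obtain ⟨a, ha⟩ := CfsgLib.Transfer.exists_pow_prime_pow_coprime (p := p) x
  have hxK : x ^ p ^ a ∈ E ⊓ secKer (bW p E) (bZ p E) := hK ▸ pow_mem hx _
  have h2 : x ^ p ^ a ∈ secKer (bZ p E) ⊥ :=
    mem_secKer_bot (centralizer_le inf_le_right (fun z hz => by
      exact (mem_centralizer_iff.1 hz _ hxK.1).symm))
  have h3 := coprime_stab (bW_pGroup E) inf_le_left
    (fun z _ => mem_normalizer_iff.2 fun h => by simp [mem_bot, conj_eq_one_iff]) ha hxK.2 h2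
  have h4 := secKer_bot_le_centralizer _ h3
  have h5 := (block_module hE).2.2 _ hxK.1 fun v hv => (mem_centralizer_iff.1 h4 v hv).symm
  obtain ⟨b, hb⟩ := isPGroup_pCoreOf E ⟨_, h5⟩
  refine ⟨a + b, Subtype.ext ?_⟩
  have hb' : (x ^ p ^ a) ^ p ^ b = 1 := congrArg Subtype.val hb
  rw [SubgroupClass.coe_pow, pow_add, pow_mul, hb', OneMemClass.coe_one]

/-- The exceptional alternative. -/
theorem block_linear_or_exceptional (hE : IsBaumannBlock p T E) : pCoreOf p E = bW p E ∨
    (p = 3 ∧ Irr E (pCoreOf p E) (bW p E) ∧ E ⊓ secKer (pCoreOf p E) (bW p E) ≤ pCoreOf p E ∧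
      ⁅pCoreOf p E, pCoreOf p E⁆ = bZ p E ∧ E ⊓ centralizer (E : Set G) = bZ p E ∧
      ∀ b : G, b ∈ baumannSubgroupOf p T → b ∉ centralizer (bW p E : Set G) →
        ¬ ⁅⁅pCoreOf p E, zpowers b⁆, zpowers b⁆ ≤ bZ p E) := by
  rcases hE.2.2.2.2 with ⟨F, _, _, n, hcard, hiso, hW, hlin | ⟨h3, hQW, hcom, hfr, hcE, hc3, hb⟩⟩ | ⟨hp2, m, hiso, hW, hlin⟩
  · exact Or.inl hlin
  · refine Or.inr ⟨h3, acts_irr hQW, acts_kernel hQW hiso fun q hq => ?_, hcom, hcE, fun b hb1 hb2 => ?_⟩
    · refine mem_secKer.2 ⟨le_normalizer hq, core_le_normalizer_bW E hq, fun u hu => ?_⟩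
      exact (hcom.le.trans inf_le_left) (commutator_mem_commutator hq hu)
    · have := hb b hb1 hb2
      rwa [hcE] at this
  · exact Or.inl hlin

theorem block_types (hE : IsBaumannBlock p T E) :
    Cfsg.IsQuasisimple (↥E ⧸ pCore p ↥E) ∨ IsSmallBlock p E := by
  have hne : pCoreOf p E ≠ E := block_core_ne hE
  rcases hE.2.2.2.2 with ⟨F, _, _, n, hcard, hiso, hW, hlinexc⟩ | ⟨hp2, m, hiso, hW, hlin⟩
  · obtain ⟨f⟩ := hiso
    rcases Nat.lt_or_ge (Fintype.card F) 4 with h4 | h4
    · right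
      have h2 : 2 ≤ Fintype.card F := Fintype.one_lt_card
      have hn : 1 ≤ n := Nat.one_le_iff_ne_zero.2 fun h0 => by rw [h0, pow_zero] at hcard; omega
      have hpd : p ∣ Fintype.card F := hcard ▸ dvd_pow_self p (by omega)
      rcases (show Fintype.card F = 2 ∨ Fintype.card F = 3 by omega) with hq | hq
      · have hp2 : p = 2 := (Nat.prime_dvd_prime_iff_eq hp.out Nat.prime_two).1 (hq ▸ hpd)
        obtain ⟨g⟩ := nonempty_mulEquiv_commutator_sl2 (ZMod.ringEquivOfPrime F Nat.prime_two hq).symm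
        refine Or.inl ⟨hp2, ?_, ?_, ?_⟩
        · rw [Nat.card_congr (f.trans g).toEquiv, card_commutator_sl22]
        · rw [acts_card hW, Nat.card_eq_fintype_card, hq]
          rfl
        · rcases hlinexc with h | ⟨h3, -⟩
          · exact h
          · exact absurd (hp2.symm.trans h3) (by decide)
      · have hp3 : p = 3 := (Nat.prime_dvd_prime_iff_eq hp.out Nat.prime_three).1 (hq ▸ hpd)
        obtain ⟨e, he⟩ : ∃ e, e = (ZMod.ringEquivOfPrime F Nat.prime_three hq).symm := ⟨_, rfl⟩
        obtain ⟨g⟩ := nonempty_mulEquiv_commutator_sl2 e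
        refine Or.inr ⟨hp3, ?_, acts_transfer e hW, ?_⟩
        · rw [Nat.card_congr (f.trans g).toEquiv, card_commutator_sl23]
        · rcases hlinexc with h | ⟨-, h, -⟩
          · exact Or.inl h
          · exact Or.inr (acts_transfer e h)
    · left
      obtain ⟨hqs, htop⟩ := sl2_quasisimple h4
      exact CfsgLib.Components.IsQuasisimple.congr ((f.trans (MulEquiv.subgroupCongr htop)).trans Subgroup.topEquiv).symm hqs
  · obtain ⟨f⟩ := hiso
    rcases Nat.lt_or_ge m 2 with hm | hm
    · rcases (show m = 0 ∨ m = 1 by omega) with rfl | rfl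
      · exfalso
        refine hne (le_antisymm (pCoreOf_le E) fun x hx => ?_)
        have h1 : ((⟨x, hx⟩ : ↥E) : ↥E ⧸ pCore p ↥E) = 1 := f.injective (Subtype.ext (Equiv.ext fun i => Fin.ext (by omega)))
        exact ⟨_, (QuotientGroup.eq_one_iff _).1 h1, rfl⟩
      · right
        refine Or.inl ⟨hp2, ?_, ?_, hlin⟩
        · rw [Nat.card_congr f.toEquiv, nat_card_alternatingGroup]
          simp [Nat.factorial]
        · obtain ⟨hn, hle, ρ, ψ, hρ, hψe, hψs, hψk, hact⟩ := hW
          have hker : ψ.ker = (bZ p E).subgroupOf (bW p E) := by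
            ext u
            rw [MonoidHom.mem_ker, hψk, mem_subgroupOf]
          have h1 := ψ.ker.card_mul_index
          rw [Subgroup.index_ker, hker, Nat.card_congr (subgroupOfEquivOfLe hle).toEquiv] at h1
          have h2 : Nat.card ψ.range = 4 := by
            rw [Nat.card_congr (Equiv.subtypeEquiv (p := fun t => t ∈ ψ.range)
              (q := fun v : Fin (2 * 1 + 1) → ZMod 2 => ∑ i, v i = 0) Multiplicative.toAdd fun t => ⟨?_, ?_⟩),
              Nat.card_eq_fintype_card]
            · decide +kernel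
            · rintro ⟨u, rfl⟩
              exact hψe u
            · intro ht
              obtain ⟨u, hu⟩ := hψs _ ht
              exact ⟨u, Multiplicative.toAdd.injective hu⟩
          rw [← h1, h2, mul_comm]
    · left
      have h5 : 5 ≤ Nat.card (Fin (2 * m + 1)) := by rw [Nat.card_fin]; omega
      haveI := alternatingGroup.isSimpleGroup h5
      refine CfsgLib.Components.IsQuasisimple.congr f.symm
        (CfsgLib.Components.isQuasisimple_of_isSimpleGroup fun hc => ?_)
      have := alternatingGroup.isMulCommutative_iff_card_le_three.1 hc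
      omega

end Block

end CfsgLib.LocalEvenB.SubBlocks
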