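import Cfsg.Agent.Lib.LocalEvenB.SubnormalBlocks.PairBasic

/-!
# Two small blocks normalising each other: the first case and preparations
-/

set_option autoImplicit false
set_option linter.all false

namespace CfsgLib.LocalEvenB.SubBlocks

open Subgroup Cfsg
open scoped commutatorElement

variable {G : Type*} [Group G] [Finite G] {p : ℕ} [hp : Fact p.Prime] {E F : Subgroup G}

theorem comm_centralizes_M_le (hE : IsSubBlock p E) (hs : IsSmallBlock p E) (hFE : F ≤ normalizer (E : Set G))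
    (h : F ≤ centralizer (bM p E : Set G)) : ⁅E, F⁆ ≤ pCoreOf p E := by
  refine commutator_le.2 fun e he f hf => small_kernel_M hE hs (mem_inf.2 ⟨?_, mem_centralizer_iff.2 fun m hm => ?_⟩)
  · rw [commutatorElement_def, show e * f * e⁻¹ * f⁻¹ = e * (f * e⁻¹ * f⁻¹) by group]
    exact mul_mem he ((mem_normalizer_iff.1 (hFE hf) _).1 (inv_mem he))
  · have hc : ∀ x ∈ bM p E, f * x * f⁻¹ = x := fun x hx => by
      rw [← mem_centralizer_iff.1 (h hf) x hx, mul_inv_cancel_right]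
    have hc' : ∀ x ∈ bM p E, f⁻¹ * x * f = x := fun x hx => by
      rw [mul_assoc, mem_centralizer_iff.1 (h hf) x hx, inv_mul_cancel_left]
    have hem : e⁻¹ * m * e ∈ bM p E := (mem_normalizer_iff''.1 (normalizer_le_bM E (le_normalizer he)) m).1 hm
    have h1 : ⁅e, f⁆ * m * ⁅e, f⁆⁻¹ = m := by
      rw [commutatorElement_def]
      calc e * f * e⁻¹ * f⁻¹ * m * (e * f * e⁻¹ * f⁻¹)⁻¹ = e * (f * (e⁻¹ * (f⁻¹ * m * f) * e) * f⁻¹) * e⁻¹ := by group
        _ = m := by rw [hc' m hm, hc _ hem]; group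
    rw [mul_inv_eq_iff_eq_mul] at h1
    exact h1.symm

/-- If neither block centralises the module of the other, the modules agree. -/
theorem small_M_eq (hG : centralizer (pCore p G : Set G) ≤ pCore p G) (hE : IsSubBlock p E) (hs : IsSmallBlock p E)
    (hF : IsSubBlock p F) (ht : IsSmallBlock p F) (hEF : E ≤ normalizer (F : Set G)) (hFE : F ≤ normalizer (E : Set G))
    (h : ¬ F ≤ centralizer (bM p E : Set G)) : bM p E = bM p F := by
  obtain ⟨hMV, -⟩ := small_V hG hE hs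
  obtain ⟨-, hVF⟩ := small_V hG hF ht
  rcases small_irr_M hE hs (bM p E ⊓ bM p F) bot_le inf_le_left ((le_inf (le_normalizer.trans (normalizer_le_bM E))
    (hEF.trans (normalizer_le_bM F))).trans inf_normalizer_le_normalizer_inf) with h0 | h0
  · refine absurd ?_ h
    rw [← commutator_eq_bot_iff_le_centralizer, commutator_comm, ← le_bot_iff, ← h0]
    refine le_inf (le_normalizer_iff_commutator_le_left.1 (hFE.trans (normalizer_le_bM E))) ?_
    exact (commutator_mono hMV le_rfl).trans hVF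
  · refine eq_of_le_of_card_ge (inf_eq_left.1 h0) ?_
    rw [(small_card_M hE hs).2.2, (small_card_M hF ht).2.2]

/-- Coprime automorphisms of a four-group. -/
theorem fourGroup_exhaust {X : Subgroup G} (hcard : Nat.card X = 2 ^ 2) (hexp : ∀ x ∈ X, x ^ 2 = 1) {g h : G}
    (hg : g ∈ normalizer (X : Set G)) (hh : h ∈ normalizer (X : Set G))
    (hgc : (orderOf g).Coprime 2) (hhc : (orderOf h).Coprime 2) (hh1 : h ∉ centralizer (X : Set G)) :
    ∃ i : ℕ, (h ^ i)⁻¹ * g ∈ centralizer (X : Set G) := by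
  haveI : Fact (Nat.Prime 2) := ⟨Nat.prime_two⟩
  have hXp : IsPGroup 2 X := IsPGroup.of_card hcard
  by_cases hg1 : g ∈ centralizer (X : Set G)
  · exact ⟨0, by simpa using hg1⟩
  have hinv : ∀ x ∈ X, x⁻¹ = x := fun x hx => inv_eq_of_mul_eq_one_right (by rw [← pow_two]; exact hexp x hx)
  have hcomm : ∀ x ∈ X, ∀ y ∈ X, x * y = y * x := fun x hx y hy => by
    calc x * y = (x * y)⁻¹ := (hinv _ (mul_mem hx hy)).symm
      _ = y * x := by rw [mul_inv_rev, hinv x hx, hinv y hy]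
  -- three nontrivial elements
  have hset : ∀ a ∈ X, ∀ b ∈ X, a ≠ 1 → b ≠ 1 → a ≠ b → ∀ x ∈ X, x = 1 ∨ x = a ∨ x = b ∨ x = a * b := by
    intro a ha b hb ha1 hb1 hab
    have hab1 : a * b ≠ 1 := fun e => hab (by rw [← hinv a ha]; exact inv_eq_of_mul_eq_one_right e)
    have hsub : ({1, a, b, a * b} : Set G) ⊆ (X : Set G) := by
      intro x hx
      rcases hx with rfl | rfl | rfl | rfl
      exacts [one_mem _, ha, hb, mul_mem ha hb]
    have heq : ({1, a, b, a * b} : Set G) = (X : Set G) := by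
      refine Set.eq_of_subset_of_ncard_le hsub ?_
      rw [← Nat.card_coe_set_eq]
      show Nat.card X ≤ _
      rw [hcard, Set.ncard_insert_of_notMem, Set.ncard_insert_of_notMem, Set.ncard_pair]
      · norm_num
      · intro e; exact ha1 (by simpa using e.symm)
      · simp only [Set.mem_insert_iff, Set.mem_singleton_iff, not_or]
        exact ⟨hab, fun e => hb1 (by simpa using e.symm)⟩
      · simp only [Set.mem_insert_iff, Set.mem_singleton_iff, not_or]
        exact ⟨Ne.symm ha1, Ne.symm hb1, Ne.symm hab1⟩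
    intro x hx
    have := heq.ge hx
    simpa using this
  -- a coprime element with a fixed point centralises
  have hfree : ∀ k ∈ normalizer (X : Set G), (orderOf k).Coprime 2 → k ∉ centralizer (X : Set G) →
      ∀ x ∈ X, x ≠ 1 → k * x * k⁻¹ ≠ x := by
    intro k hk hkc hk1 x hx hx1 hfix
    refine hk1 (secKer_bot_le_centralizer _ ?_)
    have hkx : k ∈ centralizer (zpowers x : Set G) := by
      rw [zpowers_eq_closure, centralizer_closure, mem_centralizer_singleton_iff]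
      exact (mul_inv_eq_iff_eq_mul.1 hfix).symm.symm
    refine coprime_stab hXp (zpowers_le.2 hx) (normalises_bottom _) hkc ?_ (mem_secKer_bot hkx)
    refine mem_secKer.2 ⟨hk, centralizer_le_normalizer _ hkx, fun y hy => ?_⟩
    by_cases hy1 : y = 1
    · rw [hy1]; simp
    by_cases hyx : y = x
    · rw [hyx, hfix, mul_inv_cancel]; exact one_mem _
    rcases hset x hx y hy hx1 hy1 (Ne.symm hyx) (k * y * k⁻¹) ((mem_normalizer_iff.1 hk y).1 hy) with e | e | e | e
    · exact absurd (by simpa using e) hy1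
    · exfalso
      have : k * y * k⁻¹ = k * x * k⁻¹ := e.trans hfix.symm
      exact hyx (by simpa using this)
    · rw [e, mul_inv_cancel]; exact one_mem _
    · rw [e, mul_inv_cancel_right]; exact mem_zpowers x
  obtain ⟨a, ha, ha1⟩ := (Subgroup.bot_or_exists_ne_one X).resolve_left fun e => by
    rw [e, Subgroup.card_bot] at hcard; norm_num at hcard
  -- a coprime nontrivial element cycles the three points
  have hcyc : ∀ k ∈ normalizer (X : Set G), (orderOf k).Coprime 2 → k ∉ centralizer (X : Set G) →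
      k * a * k⁻¹ ∈ X ∧ k * a * k⁻¹ ≠ 1 ∧ k * a * k⁻¹ ≠ a ∧ k * (k * a * k⁻¹) * k⁻¹ = a * (k * a * k⁻¹) := by
    intro k hk hkc hk1
    have h1 := (mem_normalizer_iff.1 hk a).1 ha
    have h2 : k * a * k⁻¹ ≠ 1 := fun e => ha1 (by simpa using e)
    have h3 := hfree k hk hkc hk1 a ha ha1
    refine ⟨h1, h2, h3, ?_⟩
    rcases hset a ha _ h1 ha1 h2 (Ne.symm h3) _ ((mem_normalizer_iff.1 hk _).1 h1) with e | e | e | e
    · exact absurd (by simpa using e) h2
    · exfalso
      refine hfree k hk hkc hk1 (a * (k * a * k⁻¹)) (mul_mem ha h1) (fun e' => h3 ?_) ?_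
      · rw [← inv_eq_of_mul_eq_one_right e', hinv a ha]
      · rw [show k * (a * (k * a * k⁻¹)) * k⁻¹ = (k * a * k⁻¹) * (k * (k * a * k⁻¹) * k⁻¹) by group, e]
        exact hcomm _ h1 _ ha
    · exact absurd e (hfree k hk hkc hk1 _ h1 h2)
    · exact e
  obtain ⟨g1, g2, g3, g4⟩ := hcyc g hg hgc hg1
  obtain ⟨h1, h2, h3, h4⟩ := hcyc h hh hhc hh1
  -- equality on two generators suffices
  have hfin : ∀ k : G, k ∈ normalizer (X : Set G) → k * a * k⁻¹ = g * a * g⁻¹ →
      k * (k * a * k⁻¹) * k⁻¹ = g * (g * a * g⁻¹) * g⁻¹ → k⁻¹ * g ∈ centralizer (X : Set G) := by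
    intro k hk e1 e2
    have c1 : k⁻¹ * g * a * (k⁻¹ * g)⁻¹ = a := by
      rw [show k⁻¹ * g * a * (k⁻¹ * g)⁻¹ = k⁻¹ * (g * a * g⁻¹) * k by group, ← e1]; group
    have c2 : k⁻¹ * g * (g * a * g⁻¹) * (k⁻¹ * g)⁻¹ = g * a * g⁻¹ := by
      rw [show k⁻¹ * g * (g * a * g⁻¹) * (k⁻¹ * g)⁻¹ = k⁻¹ * (g * (g * a * g⁻¹) * g⁻¹) * k by group, ← e2]
      rw [show k⁻¹ * (k * (k * a * k⁻¹) * k⁻¹) * k = k * a * k⁻¹ by group, e1]
    refine mem_centralizer_iff.2 fun x hx => ?_
    have c1' := mul_inv_eq_iff_eq_mul.1 c1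
    have c2' := mul_inv_eq_iff_eq_mul.1 c2
    rcases hset a ha _ g1 ha1 g2 (Ne.symm g3) x hx with rfl | rfl | rfl | rfl
    · simp
    · exact c1'.symm
    · exact c2'.symm
    · exact ((show Commute (k⁻¹ * g) a from c1').mul_right (show Commute (k⁻¹ * g) (g * a * g⁻¹) from c2')).eq.symm
  rcases hset a ha _ g1 ha1 g2 (Ne.symm g3) _ h1 with e | e | e | e
  · exact absurd e h2
  · exact absurd e h3
  · exact ⟨1, by rw [pow_one]; exact hfin h hh e (by rw [h4, g4, e])⟩
  · refine ⟨2, hfin _ (pow_mem hh 2) ?_ ?_⟩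
    · rw [pow_two, show h * h * a * (h * h)⁻¹ = h * (h * a * h⁻¹) * h⁻¹ by group, h4, e, ← mul_assoc, ← pow_two a,
        hexp a ha, one_mul]
    · rw [pow_two, show h * h * (h * h * a * (h * h)⁻¹) * (h * h)⁻¹ = h * (h * (h * (h * a * h⁻¹) * h⁻¹) * h⁻¹) * h⁻¹ by group,
        h4, g4, show h * (a * (h * a * h⁻¹)) * h⁻¹ = (h * a * h⁻¹) * (h * (h * a * h⁻¹) * h⁻¹) by group, h4,
        ← mul_assoc (h * a * h⁻¹), hcomm _ h1 a ha, mul_assoc a, ← pow_two, hexp _ h1, mul_one, e]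

/-- The quaternion action on the module. -/
theorem quat_M (hE : IsSubBlock p E) (hs : IsSmallBlock p E) (hp3 : p = 3) :
    ActsAsSL2OnSection (ZMod 3) (commutator (Matrix.SpecialLinearGroup (Fin 2) (ZMod 3))) E (bM p E) ⊥ := by
  obtain ⟨hsup, hinf, -⟩ := small_card_M hE hs
  have hMW : bM p E ≤ bW p E :=
    le_normalizer_iff_commutator_le_left.1 (le_normalizer.trans (normalizer_le_bW E))
  rcases hs with ⟨h2, -⟩ | ⟨-, -, ⟨hn, hle, ρ, ψ, hρ, hψ, hk, hact⟩, -⟩
  · exact absurd (hp3.symm.trans h2) (by decide)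
  refine ⟨le_normalizer.trans (normalizer_le_bM E), bot_le, ρ, ψ.comp (Subgroup.inclusion hMW), hρ, ?_, ?_, ?_⟩
  · intro t
    obtain ⟨⟨w, hw⟩, hwt⟩ := hψ t
    have hw' := hw
    rw [← hsup, CfsgLib.Core.mem_sup_iff_mul (hMW.trans (bW_le_normalizer_bZ E))] at hw'
    obtain ⟨m, hm, z, hz, rfl⟩ := hw'
    refine ⟨⟨m, hm⟩, ?_⟩
    rw [← hwt, show (⟨m * z, hw⟩ : ↥(bW p E)) = ⟨m, hMW hm⟩ * ⟨z, hz.1⟩ from rfl, map_mul, (hk ⟨z, hz.1⟩).2 hz, mul_one]
    rfl
  · intro u
    rw [MonoidHom.comp_apply, hk]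
    constructor
    · intro hu
      exact hinf.le ⟨u.2, hu⟩
    · intro hu
      rw [mem_bot] at hu
      show (u : G) ∈ bZ p E
      rw [hu]; exact one_mem _
  · intro e u
    obtain ⟨w, hw, hwe⟩ := hact e (Subgroup.inclusion hMW u)
    refine ⟨⟨(e : G) * u * (e : G)⁻¹, (mem_normalizer_iff.1 (normalizer_le_bM E (le_normalizer e.2)) _).1 u.2⟩, rfl, ?_⟩
    have e' : Subgroup.inclusion hMW (⟨(e : G) * u * (e : G)⁻¹,
        (mem_normalizer_iff.1 (normalizer_le_bM E (le_normalizer e.2)) _).1 u.2⟩ : ↥(bM p E)) = w := Subtype.ext hw.symm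
    rw [MonoidHom.comp_apply, e']
    exact hwe

theorem not_inv_and_ker {U U0 : Subgroup G} (hU : IsPGroup 3 U) (hUU0 : U ≤ normalizer (U0 : Set G))
    (h : ActsAsSL2OnSection (ZMod 3) (commutator (Matrix.SpecialLinearGroup (Fin 2) (ZMod 3))) E U U0) {g : G}
    (hi : SecInv U U0 g) (hk : g ∈ secKer U U0) : False := by
  have hle : U ≤ U0 := fun u hu => hi.fixed_mem hU (by norm_num) hUU0 hu ((mem_secKer.1 hk).2.2 u hu)
  have h1 := acts_card h
  rw [le_antisymm hle h.2.1, Nat.card_zmod] at h1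
  have := Nat.card_pos (α := U0)
  omega

theorem small_three_data {T : Subgroup G} (hs : IsSmallBlock p E) (hp3 : p = 3) :
    ActsAsSL2OnSection (ZMod 3) (commutator (Matrix.SpecialLinearGroup (Fin 2) (ZMod 3))) E (bW p E) (bZ p E) ∧
    (pCoreOf p E ≠ bW p E → ActsAsSL2OnSection (ZMod 3) (commutator (Matrix.SpecialLinearGroup (Fin 2) (ZMod 3))) E
      (pCoreOf p E) (bW p E)) := by
  rcases hs with ⟨h2, -⟩ | ⟨-, -, h, hl⟩
  · exact absurd (hp3.symm.trans h2) (by decide)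
  · exact ⟨h, fun hne => hl.resolve_left hne⟩

/-- Quaternion blocks commuting modulo the cores commute. -/
theorem quat_commute (hp3 : p = 3) (hE : IsSubBlock p E) (hs : IsSmallBlock p E) (hF : IsSubBlock p F)
    (hEF : E ≤ normalizer (F : Set G)) (hcom : ⁅E, F⁆ ≤ pCoreOf p F) : ⁅E, F⁆ = ⊥ := by
  obtain ⟨⟨T, hT⟩, -⟩ := id hE
  obtain ⟨⟨T', hT'⟩, -⟩ := id hF
  obtain ⟨hW, hQ⟩ := small_three_data (T := (T : Subgroup G)) hs hp3
  obtain ⟨a, ha, b, hb, hz, -⟩ := quat_exists hW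
  have hEn : ∀ x, x ∈ E → x ∈ normalizer (bW p E : Set G) ∧ x ∈ normalizer (bZ p E : Set G) ∧
      x ∈ normalizer (pCoreOf p E : Set G) := fun x hx =>
    ⟨normalizer_le_bW E (le_normalizer hx), normalizer_le_bZ E (le_normalizer hx),
      CfsgLib.LocalEven.normalizer_le_normalizer_pCoreOf E (le_normalizer hx)⟩
  have hzE : ⁅a, b⁆ ∈ E := by
    rw [commutatorElement_def]; exact mul_mem (mul_mem (mul_mem ha hb) (inv_mem ha)) (inv_mem hb)
  have hWp : IsPGroup 3 (bW p E) := hp3 ▸ bW_pGroup E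
  have hzQ : pCoreOf p E ≠ bW p E → SecInv (pCoreOf p E) (bW p E) ⁅a, b⁆ := by
    intro hne
    refine (quat_commutator (hQ hne) ha hb).resolve_left fun hk => ?_
    rcases block_linear_or_exceptional hT with hl | ⟨-, -, hker, -, -, -⟩
    · exact hne hl
    · exact not_inv_and_ker hWp (bW_le_normalizer_bZ E) hW hz (core_le_secKer_WZ E (hker ⟨hzE, hk⟩))
  obtain ⟨k, hk⟩ := CfsgLib.Transfer.exists_pow_prime_pow_coprime (p := p) ⁅a, b⁆
  have hodd : Odd (p ^ k) := by rw [hp3]; exact Odd.pow (by decide)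
  obtain ⟨z, hzdef⟩ : ∃ z, z = ⁅a, b⁆ ^ p ^ k := ⟨_, rfl⟩
  rw [← hzdef] at hk
  have hzW : SecInv (bW p E) (bZ p E) z :=
    hzdef ▸ hz.pow_odd (bW_le_normalizer_bZ E) (hEn _ hzE).1 (hEn _ hzE).2.1 hodd
  have hzEE : z ∈ ⁅E, E⁆ := hzdef ▸ pow_mem (commutator_mem_commutator ha hb) _
  obtain ⟨h1, h2⟩ := comm_le_secKer hEF hT' hcom
  have hEE : ⁅E, E⁆ ≤ E := commutator_le.2 fun x hx y hy =>
    mul_mem (mul_mem (mul_mem hx hy) (inv_mem hx)) (inv_mem hy)
  have hzc := centralizes_core hT' (hEE.trans hEF) ((commutator_mono hEE le_rfl).trans hcom) h1 h2 hzEE hk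
  have hfix : ⁅pCoreOf p F, E⁆ ≤ bZ p E ⊓ pCoreOf p F := by
    intro x hx
    have hxF : x ∈ pCoreOf p F := le_normalizer_iff_commutator_le_left.1 (le_normalizer_core hEF) hx
    have hxE : x ∈ pCoreOf p E := ((commutator_mono (sub_core_le_R hF) le_rfl).trans (sub_comm_R hE)) hx
    have hx1 : z * x * z⁻¹ * x⁻¹ = 1 := by
      rw [← mem_centralizer_iff.1 hzc x hxF, mul_inv_cancel_right, mul_inv_cancel]
    have hxW : x ∈ bW p E := by
      by_cases hne : pCoreOf p E = bW p E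
      · rwa [← hne]
      · have hzQ' : SecInv (pCoreOf p E) (bW p E) z :=
          hzdef ▸ (hzQ hne).pow_odd (core_le_normalizer_bW E) (hEn _ hzE).2.2 (hEn _ hzE).1 hodd
        exact hzQ'.fixed_mem (isPGroup_pCoreOf (p := p) E) (by rw [hp3]; norm_num) (core_le_normalizer_bW E) hxE
          (by rw [hx1]; exact one_mem _)
    exact ⟨hzW.fixed_mem hWp (by norm_num) (bW_le_normalizer_bZ E) hxW (by rw [hx1]; exact one_mem _), hxF⟩
  refine comm_eq_bot_of_centralizes hT hcom fun e he hec => ?_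
  refine secKer_bot_le_centralizer _ (coprime_stab (B := bZ p E ⊓ pCoreOf p F) (isPGroup_pCoreOf F) inf_le_right (normalises_bottom _) hec
    (mem_secKer.2 ⟨le_normalizer_core hEF he, ?_, fun x hx => ?_⟩) (mem_secKer_bot ?_))
  · exact inf_normalizer_le_normalizer_inf ⟨(hEn e he).2.1, le_normalizer_core hEF he⟩
  · have h3 := inv_mem (hfix (commutator_mem_commutator hx he))
    rwa [commutatorElement_inv, commutatorElement_def] at h3
  · exact mem_centralizer_iff.2 fun w hw => (mem_centralizer_iff.1 hw.1.2 e he).symm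

end CfsgLib.LocalEvenB.SubBlocks
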