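import Cfsg.Agent.Lib.Core.Basic
import Cfsg.Agent.Lib.LocalEvenB.SubnormalBlocks.PairSmall

/-!
# The exceptional configuration

Two exceptional quaternion blocks with the same module and the same action are equal.
-/

set_option autoImplicit false
set_option linter.all false

namespace CfsgLib.LocalEvenB.SubBlocks

open Subgroup Cfsg
open scoped commutatorElement

variable {G : Type*} [Group G] [Finite G] {p : ℕ} [hp : Fact p.Prime] {E F : Subgroup G}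

/-- One step of the fixed point series of a `p`-element on a section. -/
theorem exists_step {U U0 : Subgroup G} {b : G} (hU : IsPGroup p U) (hb : IsPGroup p (zpowers b))
    (hlt : U0 < U) (hbU : b ∈ normalizer (U : Set G)) (hbU0 : b ∈ normalizer (U0 : Set G))
    (hUU0 : U ≤ normalizer (U0 : Set G)) :
    ∃ C : Subgroup G, U0 ≤ C ∧ C ≤ U ∧ b ∈ normalizer (C : Set G) ∧ U ≤ normalizer (C : Set G) ∧
      (∀ c ∈ C, b * c * b⁻¹ * c⁻¹ ∈ U0) ∧ p * Nat.card U0 ≤ Nat.card C := by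
  obtain ⟨H, hH⟩ : ∃ H, H = U ⊔ zpowers b := ⟨_, rfl⟩
  have hUH : U ≤ H := hH ▸ le_sup_left
  have hbH : b ∈ H := hH ▸ mem_sup_right (mem_zpowers b)
  have hHU : H ≤ normalizer (U : Set G) := hH ▸ sup_le le_normalizer (zpowers_le.2 hbU)
  have hHU0 : H ≤ normalizer (U0 : Set G) := hH ▸ sup_le hUU0 (zpowers_le.2 hbU0)
  have hHp : IsPGroup p H := hH ▸ hU.to_sup_of_normal_left' hb (zpowers_le.2 hbU)
  haveI : (U0.subgroupOf H).Normal := (normal_subgroupOf_iff_le_normalizer (hlt.le.trans hUH)).2 hHU0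
  haveI : (U.subgroupOf H).Normal := (normal_subgroupOf_iff_le_normalizer hUH).2 hHU
  obtain ⟨π, hπ⟩ : ∃ π, π = QuotientGroup.mk' (U0.subgroupOf H) := ⟨_, rfl⟩
  haveI : ((U.subgroupOf H).map π).Normal :=
    Subgroup.Normal.map inferInstance π (hπ ▸ QuotientGroup.mk'_surjective _)
  have hne : (U.subgroupOf H).map π ≠ ⊥ := by
    intro h0
    refine hlt.not_ge fun v hv => ?_
    have h1 := mem_map_of_mem π (show (⟨v, hUH hv⟩ : H) ∈ U.subgroupOf H from mem_subgroupOf.2 hv)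
    rw [h0, mem_bot, hπ, QuotientGroup.mk'_apply, QuotientGroup.eq_one_iff] at h1
    exact h1
  have hne' := CfsgLib.PGroups.inf_center_ne_bot (hHp.to_quotient _) hne
  obtain ⟨K, hK⟩ : ∃ K, K = ((U.subgroupOf H).map π ⊓ center (↥H ⧸ U0.subgroupOf H)).comap π := ⟨_, rfl⟩
  have hKn : K.Normal := hK ▸ Subgroup.Normal.comap inferInstance π
  refine ⟨K.map H.subtype, ?_, ?_, ?_, ?_, ?_, ?_⟩
  · intro x hx
    refine ⟨⟨x, hUH (hlt.le hx)⟩, ?_, rfl⟩
    rw [hK, SetLike.mem_coe, mem_comap,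
      show π ⟨x, hUH (hlt.le hx)⟩ = 1 by rw [hπ, QuotientGroup.mk'_apply, QuotientGroup.eq_one_iff]; exact hx]
    exact one_mem _
  · rintro _ ⟨x, hx, rfl⟩
    rw [hK, SetLike.mem_coe, mem_comap] at hx
    obtain ⟨y, hy, hyx⟩ := hx.1
    rw [hπ, QuotientGroup.mk'_apply, QuotientGroup.mk'_apply, QuotientGroup.eq, mem_subgroupOf] at hyx
    have := mul_mem (mem_subgroupOf.1 hy) (hlt.le hyx)
    simpa using this
  · exact mem_normalizer_of_forall fun _ ⟨x, hx, e⟩ =>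
      e ▸ ⟨⟨b, hbH⟩ * x * ⟨b, hbH⟩⁻¹, hKn.conj_mem x hx _, rfl⟩
  · exact fun u hu => mem_normalizer_of_forall fun _ ⟨x, hx, e⟩ =>
      e ▸ ⟨⟨u, hUH hu⟩ * x * ⟨u, hUH hu⟩⁻¹, hKn.conj_mem x hx _, rfl⟩
  · rintro _ ⟨x, hx, rfl⟩
    rw [hK, SetLike.mem_coe, mem_comap] at hx
    have h1 := mem_center_iff.1 hx.2 (π ⟨b, hbH⟩)
    have h2 : π (⟨b, hbH⟩ * x * ⟨b, hbH⟩⁻¹ * x⁻¹) = 1 := by
      rw [map_mul, map_mul, map_mul, map_inv, map_inv, h1, mul_inv_cancel_right, mul_inv_cancel]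
    rw [hπ, QuotientGroup.mk'_apply, QuotientGroup.eq_one_iff] at h2
    exact h2
  · have hlt' : U0 < K.map H.subtype := by
      refine lt_of_le_of_ne (fun x hx => ⟨⟨x, hUH (hlt.le hx)⟩, ?_, rfl⟩) fun heq => hne' ?_
      · rw [hK, SetLike.mem_coe, mem_comap,
          show π ⟨x, hUH (hlt.le hx)⟩ = 1 by rw [hπ, QuotientGroup.mk'_apply, QuotientGroup.eq_one_iff]; exact hx]
        exact one_mem _
      · rw [eq_bot_iff]
        intro y hy
        obtain ⟨x, rfl⟩ := (hπ ▸ QuotientGroup.mk'_surjective _ : Function.Surjective π) y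
        have h1 : (x : G) ∈ U0 := heq.ge ⟨x, hK ▸ hy, rfl⟩
        rw [mem_bot, hπ, QuotientGroup.mk'_apply, QuotientGroup.eq_one_iff]
        exact h1
    have hKU : K.map H.subtype ≤ H := map_subtype_le _
    obtain ⟨i, hi⟩ := IsPGroup.iff_card.1 (hHp.to_le (hlt.le.trans hUH))
    obtain ⟨j, hj⟩ := IsPGroup.iff_card.1 (hHp.to_le hKU)
    have hlt2 : Nat.card U0 < Nat.card (K.map H.subtype) :=
      lt_of_le_of_ne (Subgroup.card_le_of_le hlt'.le) fun e => hlt'.ne (eq_of_le_of_card_ge hlt'.le e.ge)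
    rw [hi, hj] at hlt2 ⊢
    have hij := (Nat.pow_lt_pow_iff_right hp.out.one_lt).1 hlt2
    rw [← pow_succ']
    exact Nat.pow_le_pow_right hp.out.pos hij

/-- A `p`-element acts quadratically on a section of order at most `p²`. -/
theorem quad_section {U U0 : Subgroup G} {b : G} (hU : IsPGroup p U) (hb : IsPGroup p (zpowers b)) (hle : U0 ≤ U)
    (hbU : b ∈ normalizer (U : Set G)) (hbU0 : b ∈ normalizer (U0 : Set G)) (hUU0 : U ≤ normalizer (U0 : Set G))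
    (hcard : Nat.card U ≤ p ^ 2 * Nat.card U0) :
    ∀ u ∈ U, b * (b * u * b⁻¹ * u⁻¹) * b⁻¹ * (b * u * b⁻¹ * u⁻¹)⁻¹ ∈ U0 := by
  intro u hu
  have hmem : b * u * b⁻¹ * u⁻¹ ∈ U := mul_mem ((mem_normalizer_iff.1 hbU u).1 hu) (inv_mem hu)
  rcases hle.eq_or_lt with heq | hlt
  · rw [heq]
    exact mul_mem ((mem_normalizer_iff.1 hbU _).1 hmem) (inv_mem hmem)
  obtain ⟨C, hC0, hCU, hbC, hUC, hCb, hCc⟩ := exists_step hU hb hlt hbU hbU0 hUU0
  rcases hCU.eq_or_lt with heq | hlt'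
  · exact hCb _ (heq.ge hmem)
  obtain ⟨D, hD0, hDU, hbD, hUD, hDb, hDc⟩ := exists_step hU hb hlt' hbU hbC hUC
  have hDeq : D = U := eq_of_le_of_card_ge hDU (hcard.trans (by
    calc p ^ 2 * Nat.card U0 = p * (p * Nat.card U0) := by ring
      _ ≤ p * Nat.card C := Nat.mul_le_mul_left _ hCc
      _ ≤ Nat.card D := hDc))
  exact hCb _ (hDb u (hDeq.ge hu))

theorem comm_le_R_of_trivial (hF : IsSubBlock p F) (hl : pCoreOf p F ≠ bW p F) (hEF : E ≤ normalizer (F : Set G))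
    (h : ⁅pCoreOf p F, E⁆ ≤ bW p F) : ⁅E, F⁆ ≤ pCore p G := by
  obtain ⟨⟨T, hT⟩, -⟩ := id hF
  rcases block_linear_or_exceptional hT with hl' | ⟨-, -, hker, -, -, -⟩
  · exact absurd hl' hl
  have hE : E ≤ secKer (pCoreOf p F) (bW p F) := fun e he =>
    mem_secKer.2 ⟨le_normalizer_core hEF he, normalizer_le_bW F (hEF he), fun x hx => by
      have h3 := inv_mem (h (commutator_mem_commutator hx he))
      rwa [commutatorElement_inv, commutatorElement_def] at h3⟩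
  refine commutator_le.2 fun e he f hf => sub_core_le_R hF (hker (mem_inf.2 ⟨?_, ?_⟩))
  · rw [commutatorElement_def]
    exact mul_mem ((mem_normalizer_iff.1 (hEF he) _).1 hf) (inv_mem hf)
  · rw [← commutatorElement_inv]
    exact inv_mem (commutator_mem_secKer (CfsgLib.LocalEven.normalizer_le_normalizer_pCoreOf F (le_normalizer hf))
      (normalizer_le_bW F (le_normalizer hf)) (hE he))

theorem exc_core_le (hE : IsSubBlock p E) (hF : IsSubBlock p F) (ht : IsSmallBlock p F)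
    (hl : pCoreOf p F ≠ bW p F) (hEF : E ≤ normalizer (F : Set G)) (hFE : F ≤ normalizer (E : Set G))
    (hne : ¬ ⁅E, F⁆ ≤ pCore p G) (hM : bM p E = bM p F) : pCoreOf p F ≤ pCoreOf p E := by
  obtain ⟨⟨T, hT⟩, -⟩ := id hF
  rcases block_linear_or_exceptional hT with hl' | ⟨-, hirr, -, hcom, -, -⟩
  · exact absurd hl' hl
  obtain ⟨D, hD⟩ : ∃ D, D = pCoreOf p E ⊓ pCoreOf p F := ⟨_, rfl⟩
  have hDQ : D ≤ pCoreOf p F := hD ▸ inf_le_right
  have hnD : F ≤ normalizer (D : Set G) := hD ▸ (le_inf (le_normalizer_core hFE)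
    (le_normalizer.trans (CfsgLib.LocalEven.normalizer_le_normalizer_pCoreOf F))).trans inf_normalizer_le_normalizer_inf
  have hDW : F ≤ normalizer ((D ⊔ bW p F : Subgroup G) : Set G) := fun f hf =>
    mem_normalizer_of_forall fun x hx => by
      have hle : D ⊔ bW p F ≤ (D ⊔ bW p F).comap (MulAut.conj f).toMonoidHom := by
        refine sup_le (fun y hy => ?_) (fun y hy => ?_)
        · exact mem_sup_left ((mem_normalizer_iff.1 (hnD hf) y).1 hy)
        · exact mem_sup_right ((mem_normalizer_iff.1 (normalizer_le_bW F (le_normalizer hf)) y).1 hy)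
      exact hle hx
  have heq : D ⊔ bW p F = pCoreOf p F := by
    refine (hirr _ le_sup_right (sup_le hDQ (bW_le F)) hDW).resolve_left fun h0 => hne ?_
    refine comm_le_R_of_trivial hF hl hEF (le_trans ?_ (le_sup_left.trans h0.le))
    rw [hD]
    exact le_inf ((commutator_mono (sub_core_le_R hF) le_rfl).trans (sub_comm_R hE))
      (le_normalizer_iff_commutator_le_left.1 (le_normalizer_core hEF))
  have hZ : bZ p F ≤ pCoreOf p E := by
    rw [← hcom, commutator_le]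
    intro x hx y hy
    rw [← heq, CfsgLib.Core.mem_sup_iff_mul (hDQ.trans (core_le_normalizer_bW F))] at hx hy
    obtain ⟨d, hd, w, hw, rfl⟩ := hx
    obtain ⟨d', hd', w', hw', rfl⟩ := hy
    have c1 : w * (d' * w') * w⁻¹ = d' * w' := by
      rw [← core_commutes_bW (mul_mem (hDQ hd') (bW_le F hw')) hw, mul_inv_cancel_right]
    have c2 : w' * d⁻¹ * w'⁻¹ = d⁻¹ := by
      rw [← core_commutes_bW (inv_mem (hDQ hd)) hw', mul_inv_cancel_right]
    have e : ⁅d * w, d' * w'⁆ = ⁅d, d'⁆ := by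
      rw [commutatorElement_def, commutatorElement_def,
        show d * w * (d' * w') * (d * w)⁻¹ * (d' * w')⁻¹ = d * (w * (d' * w') * w⁻¹) * d⁻¹ * (d' * w')⁻¹ by group, c1,
        show d * (d' * w') * d⁻¹ * (d' * w')⁻¹ = d * d' * (w' * d⁻¹ * w'⁻¹) * d'⁻¹ by group, c2]
    rw [e]
    have h1 : D ≤ pCoreOf p E := hD ▸ inf_le_left
    exact mul_mem (mul_mem (mul_mem (h1 hd) (h1 hd')) (inv_mem (h1 hd))) (inv_mem (h1 hd'))
  obtain ⟨hsup, -, -⟩ := small_card_M hF ht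
  have hME : bM p E ≤ pCoreOf p E :=
    (le_normalizer_iff_commutator_le_left.1 (le_normalizer.trans (normalizer_le_bW E))).trans (bW_le E)
  rw [← heq, hD]
  exact sup_le inf_le_left (hsup.symm.le.trans (sup_le (hM ▸ hME) hZ))

/-- An element that acts on an exceptional block as the identity on `W` and centralises `R/Q`
and commutes with the action lies in `R`. -/
theorem exc_mem_R (hG : centralizer (pCore p G : Set G) ≤ pCore p G) (hp3 : p = 3) (hE : IsSubBlock p E)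
    (hs : IsSmallBlock p E) (hl : pCoreOf p E ≠ bW p E) {k : G} (hkE : k ∈ normalizer (E : Set G))
    (hkW : k ∈ centralizer (bW p E : Set G))
    (hkR : k ∈ secKer (pCore p G) (pCoreOf p E))
    (hkK : haveI := CfsgLib.Core.normal_pCore p G
      QuotientGroup.mk' (pCore p G) k ∈ pPrimeCore p (G ⧸ pCore p G))
    (hkc : ∀ e ∈ E, ⁅k, e⁆ ∈ pCoreOf p E) : k ∈ pCore p G := by
  haveI := CfsgLib.Core.normal_pCore p G
  obtain ⟨⟨T, hT⟩, -⟩ := id hE
  obtain ⟨hW, hQ⟩ := small_three_data (T := (T : Subgroup G)) hs hp3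
  have hQ := hQ hl
  rcases block_linear_or_exceptional hT with hl' | ⟨-, hirr, hker, hcom, -, hclause⟩
  · exact absurd hl' hl
  have hQZ : ∀ x ∈ pCoreOf p E, ∀ y ∈ pCoreOf p E, ⁅x, y⁆ ∈ bZ p E := fun x hx y hy =>
    hcom.le (commutator_mem_commutator hx hy)
  have hQW := hQ.1
  have hWc : ∀ g ∈ centralizer (bW p E : Set G), g ∈ secKer (bW p E) ⊥ := fun g hg => mem_secKer_bot hg
  -- the kernel case
  have hdone : ∀ g : G, g ∈ secKer (pCore p G) (pCoreOf p E) → g ∈ secKer (pCoreOf p E) (bW p E) →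
      g ∈ centralizer (bW p E : Set G) →
      QuotientGroup.mk' (pCore p G) g ∈ pPrimeCore p (G ⧸ pCore p G) → g ∈ pCore p G := by
    intro g h1 h2 h3 h4
    refine mem_R_of_centralizes hG h4 fun a ha => secKer_bot_le_centralizer _ ?_
    refine coprime_stab (CfsgLib.Core.isPGroup_pCore p G) (sub_core_le_R hE) (normalises_bottom _) ha (pow_mem h1 _) ?_
    exact coprime_stab (isPGroup_pCoreOf E) (bW_le E) (normalises_bottom _) ha (pow_mem h2 _) (hWc _ (pow_mem h3 _))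
  have hkQn : k ∈ normalizer (pCoreOf p E : Set G) := CfsgLib.LocalEven.normalizer_le_normalizer_pCoreOf E hkE
  rcases quat_scalar hQ hkQn (normalizer_le_bW E hkE) (fun e he => core_le_secKer_QW hT (hkc e he)) with hk | hk
  · exact hdone k hkR hk hkW hkK
  exfalso
  -- an element of the Baumann subgroup moving `W`
  obtain ⟨b, hb, hbW⟩ : ∃ b ∈ baumannSubgroupOf p (T : Subgroup G), b ∉ centralizer (bW p E : Set G) := by
    by_contra hcon
    push Not at hcon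
    refine block_core_ne hT (le_antisymm (pCoreOf_le E) ?_)
    conv_lhs => rw [← hT.2.1]
    refine commutator_le.2 fun e he b hb => ?_
    have hm : ⁅e, b⁆ ∈ E := hT.2.1.le (commutator_mem_commutator he hb)
    refine (block_module hT).2.2 _ hm fun v hv => ?_
    have hc : ∀ x ∈ bW p E, b * x * b⁻¹ = x := fun x hx => by
      rw [← mem_centralizer_iff.1 (hcon b hb) x hx, mul_inv_cancel_right]
    have hc' : ∀ x ∈ bW p E, b⁻¹ * x * b = x := fun x hx => by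
      rw [mul_assoc, mem_centralizer_iff.1 (hcon b hb) x hx, inv_mul_cancel_left]
    have h1 : ⁅e, b⁆ * v * ⁅e, b⁆⁻¹ = v := by
      rw [commutatorElement_def]
      calc e * b * e⁻¹ * b⁻¹ * v * (e * b * e⁻¹ * b⁻¹)⁻¹ = e * (b * (e⁻¹ * (b⁻¹ * v * b) * e) * b⁻¹) * e⁻¹ := by group
        _ = v := by
          rw [hc' v hv, hc _ ((mem_normalizer_iff''.1 (normalizer_le_bW E (le_normalizer he)) v).1 hv)]; group
    exact mul_inv_eq_iff_eq_mul.1 h1
  have hbp : IsPGroup p (zpowers b) := T.2.to_le (zpowers_le.2 hb.1)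
  have hbE : b ∈ normalizer (E : Set G) := by
    have := Subgroup.normalizer_commutator_ge_right E (baumannSubgroupOf p (T : Subgroup G))
    rw [hT.2.1] at this
    exact this hb
  have hbQ : b ∈ normalizer (pCoreOf p E : Set G) := CfsgLib.LocalEven.normalizer_le_normalizer_pCoreOf E hbE
  have hbWn : b ∈ normalizer (bW p E : Set G) := normalizer_le_bW E hbE
  have hbZ : b ∈ normalizer (bZ p E : Set G) := normalizer_le_bZ E hbE
  have hkZ : k ∈ normalizer (bZ p E : Set G) := normalizer_le_bZ E hkE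
  have hRE := sub_R_normalizes hE
  -- `R` acts trivially on `Q / W`
  have hRQW : pCore p G ≤ secKer (pCoreOf p E) (bW p E) := by
    intro r hr
    have hrn := hRE hr
    refine (quat_scalar hQ (CfsgLib.LocalEven.normalizer_le_normalizer_pCoreOf E hrn) (normalizer_le_bW E hrn)
      (fun e he => core_le_secKer_QW hT (sub_comm_R hE (commutator_mem_commutator hr he)))).resolve_right fun hri => ?_
    obtain ⟨i, hi⟩ := CfsgLib.Core.isPGroup_pCore p G ⟨r, hr⟩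
    have hi' : r ^ p ^ i = 1 := congrArg Subtype.val hi
    have h1 := hri.pow_odd (core_le_normalizer_bW E) (CfsgLib.LocalEven.normalizer_le_normalizer_pCoreOf E hrn)
      (normalizer_le_bW E hrn) (m := p ^ i) (by rw [hp3]; exact Odd.pow (by decide))
    rw [hi'] at h1
    exact not_inv_and_ker (U := pCoreOf p E) (by rw [← hp3]; exact isPGroup_pCoreOf E) (core_le_normalizer_bW E) hQ h1 (one_mem _)
  -- the inverted part modulo `Z`
  have hQn : ∀ x ∈ pCoreOf p E, x ∈ normalizer (bZ p E : Set G) := fun x hx => core_le_normalizer_bZ E hx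
  have hZc : ∀ x ∈ pCoreOf p E, ∀ z ∈ bZ p E, x * z = z * x := fun x hx z hz => core_commutes_bW hx hz.1
  let Y : Subgroup G :=
    { carrier := {x | x ∈ pCoreOf p E ∧ k * x * k⁻¹ * x ∈ bZ p E}
      one_mem' := ⟨one_mem _, by simp⟩
      mul_mem' := fun {x y} hx hy => ⟨mul_mem hx.1 hy.1, by
        obtain ⟨a, ha, e1⟩ : ∃ a ∈ bZ p E, k * x * k⁻¹ = a * x⁻¹ := ⟨_, hx.2, by group⟩
        obtain ⟨c, hc, e2⟩ : ∃ c ∈ bZ p E, k * y * k⁻¹ = c * y⁻¹ := ⟨_, hy.2, by group⟩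
        have h1 := hZc _ (inv_mem hx.1) c hc
        rw [show k * (x * y) * k⁻¹ * (x * y) = (k * x * k⁻¹) * (k * y * k⁻¹) * x * y by group, e1, e2,
          show a * x⁻¹ * (c * y⁻¹) * x * y = a * (x⁻¹ * c) * y⁻¹ * x * y by group, h1,
          show a * (c * x⁻¹) * y⁻¹ * x * y = a * c * ⁅x⁻¹, y⁻¹⁆ by rw [commutatorElement_def]; group]
        exact mul_mem (mul_mem ha hc) (hQZ _ (inv_mem hx.1) _ (inv_mem hy.1))⟩
      inv_mem' := fun {x} hx => ⟨inv_mem hx.1, by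
        obtain ⟨a, ha, e1⟩ : ∃ a ∈ bZ p E, k * x * k⁻¹ = a * x⁻¹ := ⟨_, hx.2, by group⟩
        rw [show k * x⁻¹ * k⁻¹ * x⁻¹ = (x * (k * x * k⁻¹))⁻¹ by group, e1, ← mul_assoc, hZc x hx.1 a ha,
          mul_inv_cancel_right]
        exact inv_mem ha⟩ }
  have hY : ∀ x, x ∈ Y ↔ x ∈ pCoreOf p E ∧ k * x * k⁻¹ * x ∈ bZ p E := fun x => Iff.rfl
  have hYQ : Y ≤ pCoreOf p E := fun x hx => hx.1
  have hkfix : ∀ w ∈ bW p E, k * w * k⁻¹ = w := fun w hw => by
    rw [← mem_centralizer_iff.1 hkW w hw, mul_inv_cancel_right]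
  have hWY : ∀ w ∈ bW p E, w ∈ Y → w ∈ bZ p E := by
    intro w hw hwY
    have h1 := hwY.2
    rw [hkfix w hw] at h1
    obtain ⟨i, hi⟩ := bW_pGroup E ⟨w, hw⟩
    have hi' : w ^ p ^ i = 1 := congrArg Subtype.val hi
    have hc : (p ^ i).Coprime 2 := Nat.Coprime.pow_left i (by rw [hp3]; norm_num)
    obtain ⟨j, hj⟩ := exists_pow_eq_self_of_coprime (n := 2) (x := w)
      ((hc.coprime_dvd_left (orderOf_dvd_of_pow_eq_one hi')).symm)
    rw [← hj, pow_two]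
    exact pow_mem h1 j
  have hZY : bZ p E ≤ Y := fun z hz => ⟨bW_le E hz.1, by rw [hkfix z hz.1]; exact mul_mem hz hz⟩
  have hsupY : Y ⊔ bW p E = pCoreOf p E := by
    refine le_antisymm (sup_le hYQ (bW_le E)) fun x hx => ?_
    have haW : k * x * k⁻¹ * x ∈ bW p E := hk x hx
    obtain ⟨a, ha⟩ : ∃ a, a = k * x * k⁻¹ * x := ⟨_, rfl⟩
    rw [← ha] at haW
    have hkx : k * x * k⁻¹ = a * x⁻¹ := by rw [ha]; group
    have c1 : x⁻¹ * a = a * x⁻¹ := core_commutes_bW (inv_mem hx) haW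
    have c2 : x * a⁻¹ = a⁻¹ * x := core_commutes_bW hx (inv_mem haW)
    have hyY : x * x * a⁻¹ ∈ Y := by
      refine ⟨mul_mem (mul_mem hx hx) (inv_mem (bW_le E haW)), ?_⟩
      have e : k * (x * x * a⁻¹) * k⁻¹ = a * x⁻¹ * x⁻¹ := by
        rw [show k * (x * x * a⁻¹) * k⁻¹ = (k * x * k⁻¹) * (k * x * k⁻¹) * (k * a⁻¹ * k⁻¹) by group, hkx,
          hkfix _ (inv_mem haW), show a * x⁻¹ * (a * x⁻¹) * a⁻¹ = a * (x⁻¹ * a) * x⁻¹ * a⁻¹ by group, c1,
          show a * (a * x⁻¹) * x⁻¹ * a⁻¹ = a * a * (x⁻¹ * (x⁻¹ * a⁻¹)) by group,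
          core_commutes_bW (inv_mem hx) (inv_mem haW), ← mul_assoc x⁻¹, core_commutes_bW (inv_mem hx) (inv_mem haW)]
        group
      rw [e, show a * x⁻¹ * x⁻¹ * (x * x * a⁻¹) = 1 by group]
      exact one_mem _
    have hx2 : x * x ∈ Y ⊔ bW p E := by
      rw [← inv_mul_cancel_right (x * x) a]
      exact mul_mem (mem_sup_left hyY) (mem_sup_right haW)
    obtain ⟨i, hi⟩ := isPGroup_pCoreOf E ⟨x, hx⟩
    have hi' : x ^ p ^ i = 1 := congrArg Subtype.val hi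
    have hc : (p ^ i).Coprime 2 := Nat.Coprime.pow_left i (by rw [hp3]; norm_num)
    obtain ⟨j, hj⟩ := exists_pow_eq_self_of_coprime (n := 2) (x := x)
      ((hc.coprime_dvd_left (orderOf_dvd_of_pow_eq_one hi')).symm)
    rw [← hj, pow_two]
    exact pow_mem hx2 j
  -- `R` preserves the inverted part
  have hRY : ∀ r ∈ pCore p G, ∀ x ∈ Y, ∃ z ∈ bZ p E, r * x * r⁻¹ = z * x := by
    intro r hr x hx
    obtain ⟨q, hq, eq1⟩ : ∃ q ∈ pCoreOf p E, k * r * k⁻¹ = q * r := ⟨_, (mem_secKer.1 hkR).2.2 r hr, by group⟩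
    obtain ⟨a, ha, e1⟩ : ∃ a ∈ bZ p E, k * x * k⁻¹ = a * x⁻¹ := ⟨_, hx.2, by group⟩
    obtain ⟨w, hw, e2⟩ : ∃ w ∈ bW p E, r * x * r⁻¹ = w * x := ⟨_, (mem_secKer.1 (hRQW hr)).2.2 x hx.1, by group⟩
    refine ⟨w, ?_, e2⟩
    have hxw : x * w = w * x := core_commutes_bW hx.1 hw
    have c0 : r * x⁻¹ * r⁻¹ = x⁻¹ * w⁻¹ := by
      rw [show r * x⁻¹ * r⁻¹ = (r * x * r⁻¹)⁻¹ by group, e2, mul_inv_rev]
    have hra : r * a * r⁻¹ ∈ bZ p E := (mem_normalizer_iff.1 (normalizer_le_bZ E (hRE hr)) a).1 ha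
    have hA : k * (r * x * r⁻¹) * k⁻¹ = w * (a * x⁻¹) := by
      rw [e2, show k * (w * x) * k⁻¹ = (k * w * k⁻¹) * (k * x * k⁻¹) by group, hkfix w hw, e1]
    have hB : k * (r * x * r⁻¹) * k⁻¹ = ⁅q, (r * a * r⁻¹) * (x⁻¹ * w⁻¹)⁆ * ((r * a * r⁻¹) * (x⁻¹ * w⁻¹)) := by
      rw [show k * (r * x * r⁻¹) * k⁻¹ = (k * r * k⁻¹) * (k * x * k⁻¹) * (k * r * k⁻¹)⁻¹ by group, eq1, e1,
        show q * r * (a * x⁻¹) * (q * r)⁻¹ = q * ((r * a * r⁻¹) * (r * x⁻¹ * r⁻¹)) * q⁻¹ by group, c0,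
        commutatorElement_def]
      group
    have hmemQ : (r * a * r⁻¹) * (x⁻¹ * w⁻¹) ∈ pCoreOf p E :=
      mul_mem (bW_le E hra.1) (mul_mem (inv_mem hx.1) (inv_mem (bW_le E hw)))
    obtain ⟨z, hz, hzeq⟩ : ∃ z ∈ bZ p E, w * (a * x⁻¹) = z * (x⁻¹ * w⁻¹) :=
      ⟨⁅q, (r * a * r⁻¹) * (x⁻¹ * w⁻¹)⁆ * (r * a * r⁻¹), mul_mem (hQZ q hq _ hmemQ) hra, by
        rw [← hA, hB]; exact (mul_assoc _ _ _).symm⟩
    have c1 : x⁻¹ * w⁻¹ = w⁻¹ * x⁻¹ := core_commutes_bW (inv_mem hx.1) (inv_mem hw)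
    rw [c1, ← mul_assoc, ← mul_assoc, mul_left_inj] at hzeq
    have hww : w * w = z * a⁻¹ := by
      have c2 : w * a = a * w := omegaOneCenter_comm hw ha.1
      calc w * w = (w * a) * w * a⁻¹ := by rw [c2, mul_assoc a w w, mul_assoc, omegaOneCenter_comm (mul_mem hw hw) (inv_mem ha.1), ← mul_assoc, mul_inv_cancel, one_mul]
        _ = z * w⁻¹ * w * a⁻¹ := by rw [hzeq]
        _ = z * a⁻¹ := by rw [inv_mul_cancel_right]
    obtain ⟨i, hi⟩ := bW_pGroup E ⟨w, hw⟩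
    have hi' : w ^ p ^ i = 1 := congrArg Subtype.val hi
    have hc : (p ^ i).Coprime 2 := Nat.Coprime.pow_left i (by rw [hp3]; norm_num)
    obtain ⟨j, hj⟩ := exists_pow_eq_self_of_coprime (n := 2) (x := w)
      ((hc.coprime_dvd_left (orderOf_dvd_of_pow_eq_one hi')).symm)
    rw [← hj, pow_two, hww]
    exact pow_mem (mul_mem hz (inv_mem ha)) j
  -- the conjugate of `k` differs from `k` by an element of `R`
  obtain ⟨k', hk'⟩ : ∃ k', k' = b * k * b⁻¹ := ⟨_, rfl⟩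
  obtain ⟨r0, hr0⟩ : ∃ r0, r0 = k' * k⁻¹ := ⟨_, rfl⟩
  have hK := CfsgLib.Core.normal_pPrimeCore p (G ⧸ pCore p G)
  have hr0R : r0 ∈ pCore p G := by
    have hk'W : k' ∈ centralizer (bW p E : Set G) := by
      rw [hk']
      exact (mem_normalizer_iff.1 (CfsgLib.Signalizer.normalizer_le_normalizer_centralizer_set (bW p E) hbWn) k).1 hkW
    have hk'R : k' ∈ secKer (pCore p G) (pCoreOf p E) :=
      hk' ▸ conj_mem_secKer (by rw [normalizer_eq_top]; exact mem_top b) hbQ hkR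
    have hk'i : SecInv (pCoreOf p E) (bW p E) k' := by
      intro u hu
      rw [hk']
      have h1 := (mem_normalizer_iff.1 hbWn _).1 (hk _ ((mem_normalizer_iff''.1 hbQ u).1 hu))
      rwa [show b * k * b⁻¹ * u * (b * k * b⁻¹)⁻¹ * u = b * (k * (b⁻¹ * u * b) * k⁻¹ * (b⁻¹ * u * b)) * b⁻¹ by group]
    have hkinv : SecInv (pCoreOf p E) (bW p E) k⁻¹ := by
      intro u hu
      have hm : k⁻¹ * u * k ∈ pCoreOf p E := (mem_normalizer_iff''.1 hkQn u).1 hu
      have h1 := hk _ hm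
      rw [show k * (k⁻¹ * u * k) * k⁻¹ * (k⁻¹ * u * k) = u * (k⁻¹ * u * k) by group] at h1
      have h2 := (mem_normalizer_iff''.1 (core_le_normalizer_bW E hu) _).1 h1
      rwa [show u⁻¹ * (u * (k⁻¹ * u * k)) * u = k⁻¹ * u * k⁻¹⁻¹ * u by group] at h2
    have hkW0 : k ∈ normalizer (bW p E : Set G) := normalizer_le_bW E hkE
    have hk'n : k' ∈ normalizer (E : Set G) := hk' ▸ mul_mem (mul_mem hbE hkE) (inv_mem hbE)
    refine hdone r0 (hr0 ▸ mul_mem hk'R (inv_mem hkR)) (hr0 ▸ hk'i.mul_mem_secKer hkinv (core_le_normalizer_bW E)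
        (CfsgLib.LocalEven.normalizer_le_normalizer_pCoreOf E hk'n) (inv_mem hkQn)
        (normalizer_le_bW E hk'n) (inv_mem hkW0))
      (hr0 ▸ mul_mem hk'W (inv_mem hkW)) ?_
    rw [hr0, hk', map_mul, map_inv, map_mul, map_mul, map_inv]
    exact mul_mem (hK.conj_mem _ hkK _) (inv_mem hkK)
  -- `b` normalises the inverted part
  have hbY : ∀ x ∈ Y, b⁻¹ * x * b ∈ Y := by
    intro x hx
    obtain ⟨a, ha, e1⟩ : ∃ a ∈ bZ p E, k * x * k⁻¹ = a * x⁻¹ := ⟨_, hx.2, by group⟩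
    obtain ⟨z, hz, e2⟩ := hRY r0 hr0R x hx
    refine ⟨(mem_normalizer_iff''.1 hbQ x).1 hx.1, ?_⟩
    have hra : r0 * a * r0⁻¹ ∈ bZ p E := (mem_normalizer_iff.1 (normalizer_le_bZ E (hRE hr0R)) a).1 ha
    have hk'x : k' * x * k'⁻¹ * x ∈ bZ p E := by
      rw [show k' = r0 * k by rw [hr0]; group,
        show r0 * k * x * (r0 * k)⁻¹ * x = (r0 * (k * x * k⁻¹) * r0⁻¹) * x by group, e1,
        show r0 * (a * x⁻¹) * r0⁻¹ * x = (r0 * a * r0⁻¹) * ((r0 * x * r0⁻¹)⁻¹ * x) by group, e2,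
        show (z * x)⁻¹ * x = x⁻¹ * z⁻¹ * x by group, hZc _ (inv_mem hx.1) _ (inv_mem hz), inv_mul_cancel_right]
      exact mul_mem hra (inv_mem hz)
    have h1 := (mem_normalizer_iff''.1 hbZ _).1 hk'x
    rw [hk'] at h1
    rwa [show b⁻¹ * (b * k * b⁻¹ * x * (b * k * b⁻¹)⁻¹ * x) * b = k * (b⁻¹ * x * b) * k⁻¹ * (b⁻¹ * x * b) by group] at h1
  have hbYn : b ∈ normalizer (Y : Set G) := by
    rw [← inv_inv b]
    refine inv_mem (mem_normalizer_of_forall fun x hx => ?_)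
    rw [inv_inv]
    exact hbY x hx
  -- orders of the two parts
  have hcardW : Nat.card (bW p E) = p ^ 2 * Nat.card (bZ p E) := by rw [acts_card hW, Nat.card_zmod, hp3]
  have hcardY : Nat.card Y ≤ p ^ 2 * Nat.card (bZ p E) := by
    have hinf : Y ⊓ bW p E ≤ bZ p E := fun w hw => hWY w hw.2 hw.1
    have h1 := CfsgLib.Core.card_sup_mul_card_inf Y (bW p E) (hYQ.trans (core_le_normalizer_bW E))
    rw [hsupY] at h1
    have h2 : Nat.card (pCoreOf p E) = p ^ 2 * Nat.card (bW p E) := by rw [acts_card hQ, Nat.card_zmod, hp3]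
    rw [h2] at h1
    have h3 : Nat.card ↥(Y ⊓ bW p E) ≤ Nat.card (bZ p E) := Subgroup.card_le_of_le hinf
    have h4 : Nat.card Y * Nat.card (bW p E) ≤ (p ^ 2 * Nat.card (bZ p E)) * Nat.card (bW p E) :=
      calc Nat.card Y * Nat.card (bW p E) = p ^ 2 * Nat.card (bW p E) * Nat.card ↥(Y ⊓ bW p E) := h1.symm
        _ ≤ p ^ 2 * Nat.card (bW p E) * Nat.card (bZ p E) := Nat.mul_le_mul_left _ h3
        _ = _ := by ring
    exact Nat.le_of_mul_le_mul_right h4 Nat.card_pos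
  have hqW := quad_section (bW_pGroup E) hbp inf_le_left hbWn hbZ (bW_le_normalizer_bZ E) hcardW.le
  have hqY := quad_section ((isPGroup_pCoreOf E).to_le hYQ) hbp hZY hbYn hbZ (hYQ.trans (core_le_normalizer_bZ E)) hcardY
  -- quadratic action contradicts the block
  let L1 : Subgroup G :=
    { carrier := {x | x ∈ pCoreOf p E ∧ b * x * b⁻¹ * x⁻¹ ∈ bZ p E}
      one_mem' := ⟨one_mem _, by simp⟩
      mul_mem' := fun {x y} hx hy => ⟨mul_mem hx.1 hy.1, by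
        rw [show b * (x * y) * b⁻¹ * (x * y)⁻¹ = (b * x * b⁻¹ * x⁻¹) * (x * (b * y * b⁻¹ * y⁻¹) * x⁻¹) by group]
        exact mul_mem hx.2 ((mem_normalizer_iff.1 (hQn x hx.1) _).1 hy.2)⟩
      inv_mem' := fun {x} hx => ⟨inv_mem hx.1, by
        rw [show b * x⁻¹ * b⁻¹ * x⁻¹⁻¹ = x⁻¹ * (b * x * b⁻¹ * x⁻¹)⁻¹ * x by group]
        exact (mem_normalizer_iff''.1 (hQn x hx.1) _).1 (inv_mem hx.2)⟩ }
  have hZL : bZ p E ≤ L1 := fun z hz =>
    ⟨bW_le E hz.1, mul_mem ((mem_normalizer_iff.1 hbZ z).1 hz) (inv_mem hz)⟩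
  have hQL : pCoreOf p E ≤ normalizer (L1 : Set G) := fun q hq => mem_normalizer_of_forall fun x hx => by
    rw [show q * x * q⁻¹ = ⁅q, x⁆ * x by rw [commutatorElement_def]; group]
    exact mul_mem (hZL (hQZ q hq x hx.1)) hx
  have hbL : b ∈ normalizer (L1 : Set G) := mem_normalizer_of_forall fun x hx => by
    refine ⟨(mem_normalizer_iff.1 hbQ x).1 hx.1, ?_⟩
    have h1 := (mem_normalizer_iff.1 hbZ _).1 hx.2
    rwa [show b * (b * x * b⁻¹) * b⁻¹ * (b * x * b⁻¹)⁻¹ = b * (b * x * b⁻¹ * x⁻¹) * b⁻¹ by group]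
  let L2 : Subgroup G :=
    { carrier := {x | x ∈ pCoreOf p E ∧ b * x * b⁻¹ * x⁻¹ ∈ L1}
      one_mem' := ⟨one_mem _, by simp⟩
      mul_mem' := fun {x y} hx hy => ⟨mul_mem hx.1 hy.1, by
        rw [show b * (x * y) * b⁻¹ * (x * y)⁻¹ = (b * x * b⁻¹ * x⁻¹) * (x * (b * y * b⁻¹ * y⁻¹) * x⁻¹) by group]
        exact mul_mem hx.2 ((mem_normalizer_iff.1 (hQL hx.1) _).1 hy.2)⟩
      inv_mem' := fun {x} hx => ⟨inv_mem hx.1, by
        rw [show b * x⁻¹ * b⁻¹ * x⁻¹⁻¹ = x⁻¹ * (b * x * b⁻¹ * x⁻¹)⁻¹ * x by group]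
        exact (mem_normalizer_iff''.1 (hQL hx.1) _).1 (inv_mem hx.2)⟩ }
  have hQL2 : pCoreOf p E ≤ L2 := by
    rw [← hsupY]
    refine sup_le (fun u hu => ⟨hYQ hu, ?_, hqY u hu⟩) (fun u hu => ⟨bW_le E hu, ?_, hqW u hu⟩)
    · exact mul_mem ((mem_normalizer_iff.1 hbQ u).1 (hYQ hu)) (inv_mem (hYQ hu))
    · exact mul_mem ((mem_normalizer_iff.1 hbQ u).1 (bW_le E hu)) (inv_mem (bW_le E hu))
  have hb1 : b ∈ secKer (pCoreOf p E) L1 := mem_secKer.2 ⟨hbQ, hbL, fun u hu => (hQL2 hu).2⟩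
  have hb2 : b ∈ secKer L1 (bZ p E) := mem_secKer.2 ⟨hbL, hbZ, fun u hu => hu.2⟩
  refine hclause b hb hbW ((commutator_mono ?_ le_rfl).trans (?_ : ⁅L1, zpowers b⁆ ≤ bZ p E))
  · refine commutator_le.2 fun x hx g hg => ?_
    have h1 := inv_mem ((mem_secKer.1 ((zpowers_le.2 hb1 : zpowers b ≤ _) hg)).2.2 x hx)
    rwa [show (g * x * g⁻¹ * x⁻¹)⁻¹ = ⁅x, g⁆ by rw [commutatorElement_def]; group] at h1
  · refine commutator_le.2 fun x hx g hg => ?_
    have h1 := inv_mem ((mem_secKer.1 ((zpowers_le.2 hb2 : zpowers b ≤ _) hg)).2.2 x hx)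
    rwa [show (g * x * g⁻¹ * x⁻¹)⁻¹ = ⁅x, g⁆ by rw [commutatorElement_def]; group] at h1

end CfsgLib.LocalEvenB.SubBlocks
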