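import Cfsg.Agent.Lib.LocalEvenB.SubnormalBlocks.PairExc

/-!
# Two small blocks normalising each other are equal or commute
-/

set_option autoImplicit false
set_option linter.all false

namespace CfsgLib.LocalEvenB.SubBlocks

open Subgroup Cfsg
open scoped commutatorElement

variable {G : Type*} [Group G] [Finite G] {p : ℕ} [hp : Fact p.Prime] {E F : Subgroup G}

theorem small_image_quot (hE : IsSubBlock p E) (hs : IsSmallBlock p E) (hF : IsSubBlock p F) (ht : IsSmallBlock p F)
    {e f : G} (he : e ∈ E) (hf : f ∈ F) :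
    haveI := CfsgLib.Core.normal_pCore p G
    QuotientGroup.mk' (pCore p G) (f⁻¹ * e) ∈ pPrimeCore p (G ⧸ pCore p G) := by
  haveI := CfsgLib.Core.normal_pCore p G
  rw [map_mul, map_inv]
  exact mul_mem (inv_mem (small_image_le hF ht (mem_map_of_mem _ hf))) (small_image_le hE hs (mem_map_of_mem _ he))

/-- With a common linear core, equal action on it gives congruence modulo `O_p(G)`. -/
theorem linear_congr (hG : centralizer (pCore p G : Set G) ≤ pCore p G)
    (hE : IsSubBlock p E) (hs : IsSmallBlock p E) (hF : IsSubBlock p F) (ht : IsSmallBlock p F)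
    (hM : bM p E = bM p F) (hlE : pCoreOf p E = bW p E) (hlF : pCoreOf p F = bW p F)
    {e f : G} (he : e ∈ E) (hf : f ∈ F) (hk : f⁻¹ * e ∈ centralizer (bM p E : Set G)) : e ∈ F ⊔ pCore p G := by
  haveI := CfsgLib.Core.normal_pCore p G
  have h1 : e ∈ secKer (pCore p G) (bM p E) := small_linear hE hs hlE ▸ sub_secKer_R hE he
  have h2 : f ∈ secKer (pCore p G) (bM p E) := by
    rw [hM]; exact small_linear hF ht hlF ▸ sub_secKer_R hF hf
  have hMR : bM p E ≤ pCore p G := (small_linear hE hs hlE).symm.le.trans (sub_core_le_R hE)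
  have h3 : f⁻¹ * e ∈ pCore p G := by
    refine mem_R_of_centralizes hG (small_image_quot hE hs hF ht he hf) fun a ha => secKer_bot_le_centralizer _ ?_
    exact coprime_stab (CfsgLib.Core.isPGroup_pCore p G) hMR (normalises_bottom _) ha
      (pow_mem (mul_mem (inv_mem h2) h1) _) (pow_mem (mem_secKer_bot hk) _)
  simpa using mul_mem (mem_sup_left hf : f ∈ F ⊔ pCore p G) (mem_sup_right h3)

theorem two_le (hG : centralizer (pCore p G : Set G) ≤ pCore p G) (hp2 : p = 2)
    (hE : IsSubBlock p E) (hs : IsSmallBlock p E) (hF : IsSubBlock p F) (ht : IsSmallBlock p F)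
    (hFM : ¬ F ≤ centralizer (bM p E : Set G)) (hFE : F ≤ normalizer (E : Set G))
    (hM : bM p E = bM p F) : E ≤ F := by
  obtain ⟨⟨T', hT'⟩, -⟩ := id hF
  obtain ⟨⟨T, hT⟩, -⟩ := id hE
  obtain ⟨h, hh, hhc, hh1⟩ : ∃ h ∈ F, (orderOf h).Coprime p ∧ h ∉ centralizer (bM p E : Set G) := by
    by_contra hcon
    push Not at hcon
    exact hFM (block_le_of_coprime hT' hcon)
  have hcard : Nat.card (bM p E) = 2 ^ 2 := by rw [(small_card_M hE hs).2.2, hp2]
  have hexp : ∀ x ∈ bM p E, x ^ 2 = 1 := fun x hx => by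
    have hMW : bM p E ≤ bW p E :=
      le_normalizer_iff_commutator_le_left.1 (le_normalizer.trans (normalizer_le_bW E))
    rw [← hp2]; exact omegaOneCenter_pow (hMW hx)
  refine block_le_of_coprime hT fun e he hec => sub_mem_of_coprime hF ?_ hec
  obtain ⟨i, hi⟩ := fourGroup_exhaust hcard hexp (normalizer_le_bM E (le_normalizer he))
    (normalizer_le_bM E (hFE hh)) (hp2 ▸ hec) (hp2 ▸ hhc) hh1
  exact linear_congr hG hE hs hF ht hM (small_two_linear hs hp2) (small_two_linear ht hp2) he (pow_mem hh i) hi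

theorem three_le (hG : centralizer (pCore p G : Set G) ≤ pCore p G) (hp3 : p = 3)
    (hE : IsSubBlock p E) (hs : IsSmallBlock p E) (hF : IsSubBlock p F) (ht : IsSmallBlock p F)
    (hEF : E ≤ normalizer (F : Set G)) (hFE : F ≤ normalizer (E : Set G))
    (hne : ¬ ⁅E, F⁆ ≤ pCore p G) (hM : bM p E = bM p F)
    (hlin : pCoreOf p E = bW p E ↔ pCoreOf p F = bW p F) : E ≤ F := by
  obtain ⟨⟨T, hT⟩, -⟩ := id hE
  obtain ⟨⟨T', hT'⟩, -⟩ := id hF
  have hqE := quat_M hE hs hp3
  have hqF : ActsAsSL2OnSection (ZMod 3) (commutator (Matrix.SpecialLinearGroup (Fin 2) (ZMod 3))) F (bM p E) ⊥ :=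
    hM ▸ quat_M hF ht hp3
  refine sub_le_of_le_sup hE hF fun e he => ?_
  haveI := CfsgLib.Core.normal_pCore p G
  have hen : e ∈ normalizer (bM p E : Set G) := normalizer_le_bM E (le_normalizer he)
  obtain ⟨f, hf, hk⟩ : ∃ f ∈ F, f⁻¹ * e ∈ secKer (bM p E) ⊥ := by
    rcases quat_trichotomy hqE he with h | h | h
    · exact ⟨1, one_mem _, by simpa using h⟩
    · exact quat_exhaust hqF hen (normalises_bottom _ he) (Or.inr h)
    · exact quat_exhaust hqF hen (normalises_bottom _ he) (Or.inl h)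
  have hkc := secKer_bot_le_centralizer _ hk
  by_cases hlE : pCoreOf p E = bW p E
  · exact linear_congr hG hE hs hF ht hM hlE (hlin.1 hlE) he hf hkc
  have hlF : pCoreOf p F ≠ bW p F := fun h => hlE (hlin.2 h)
  have hQ : pCoreOf p E = pCoreOf p F := by
    refine le_antisymm ?_ (exc_core_le hE hF ht hlF hEF hFE hne hM)
    exact exc_core_le hF hE hs hlE hFE hEF (by rwa [commutator_comm]) hM.symm
  have hWeq : bW p E = bW p F := congrArg (omegaOneCenter p) hQ
  have hZeq : bZ p E = bZ p F := by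
    rcases block_linear_or_exceptional hT with h | ⟨-, -, -, h1, -, -⟩
    · exact absurd h hlE
    rcases block_linear_or_exceptional hT' with h | ⟨-, -, -, h2, -, -⟩
    · exact absurd h hlF
    rw [← h1, ← h2, hQ]
  have hkE : f⁻¹ * e ∈ normalizer (E : Set G) := mul_mem (inv_mem (hFE hf)) (le_normalizer he)
  have hkW : f⁻¹ * e ∈ centralizer (bW p E : Set G) := by
    refine mem_centralizer_iff.2 fun v hv => ?_
    have hle : bM p E ⊔ bZ p E ≤ centralizer ({f⁻¹ * e} : Set G) := sup_le
      (fun m hm => mem_centralizer_singleton_iff.2 (mem_centralizer_iff.1 hkc m hm))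
      (fun z hz => mem_centralizer_singleton_iff.2 (Commute.mul_right
        (Commute.inv_right (mem_centralizer_iff.1 ((hZeq ▸ hz : z ∈ bZ p F)).2 f hf).symm)
        (mem_centralizer_iff.1 hz.2 e he).symm).eq)
    exact mem_centralizer_singleton_iff.1 (hle ((small_card_M hE hs).1.ge hv))
  have hkR : f⁻¹ * e ∈ secKer (pCore p G) (pCoreOf p E) :=
    mul_mem (inv_mem (hQ ▸ sub_secKer_R hF hf)) (sub_secKer_R hE he)
  have hkcomm : ∀ x ∈ E, ⁅f⁻¹ * e, x⁆ ∈ pCoreOf p E := fun x hx => by
    refine small_kernel_M hE hs (mem_inf.2 ⟨?_, ?_⟩)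
    · rw [commutatorElement_def]
      exact mul_mem ((mem_normalizer_iff.1 hkE x).1 hx) (inv_mem hx)
    · have h1 := commutator_mem_secKer (normalizer_le_bM E (le_normalizer hx)) (normalises_bottom _ hx) hk
      have h2 := inv_mem h1
      rw [commutatorElement_inv] at h2
      exact secKer_bot_le_centralizer _ h2
  have hkR' := exc_mem_R hG hp3 hE hs hlE hkE hkW hkR (small_image_quot hE hs hF ht he hf) hkcomm
  simpa using mul_mem (mem_sup_left hf : f ∈ F ⊔ pCore p G) (mem_sup_right hkR')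

/-- Small blocks normalising each other are equal or commute. -/
theorem small_pair (hG : centralizer (pCore p G : Set G) ≤ pCore p G)
    (hE : IsSubBlock p E) (hs : IsSmallBlock p E) (hF : IsSubBlock p F) (ht : IsSmallBlock p F)
    (hEF : E ≤ normalizer (F : Set G)) (hFE : F ≤ normalizer (E : Set G)) : E = F ∨ ⁅E, F⁆ = ⊥ := by
  obtain ⟨⟨T, hT⟩, -⟩ := id hE
  obtain ⟨⟨T', hT'⟩, -⟩ := id hF
  have hEFle : ⁅E, F⁆ ≤ F := le_normalizer_iff_commutator_le_right.1 hEF
  have hcore : ⁅E, F⁆ ≤ pCore p G → ⁅E, F⁆ ≤ pCoreOf p F := fun h =>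
    (le_inf hEFle h).trans (sub_core_eq hF).ge
  have hsym : ∀ {X : Subgroup G}, ⁅E, F⁆ ≤ X → ⁅F, E⁆ ≤ X := fun h => (commutator_comm F E).le.trans h
  rcases (show p = 2 ∨ p = 3 from hs.imp (fun h => h.1) (fun h => h.1)) with hp2 | hp3
  · by_cases hFM : F ≤ centralizer (bM p E : Set G)
    · right
      rw [commutator_comm]
      refine comm_eq_bot_of_centralizes hT' ?_ fun f hf _ => ?_
      · rw [commutator_comm]; exact comm_centralizes_M_le hE hs hFE hFM
      · rw [small_linear hE hs (small_two_linear hs hp2)]; exact hFM hf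
    by_cases hEM : E ≤ centralizer (bM p F : Set G)
    · right
      refine comm_eq_bot_of_centralizes hT ?_ fun e he _ => ?_
      · rw [commutator_comm]; exact comm_centralizes_M_le hF ht hEF hEM
      · rw [small_linear hF ht (small_two_linear ht hp2)]; exact hEM he
    have hM := small_M_eq hG hE hs hF ht hEF hFE hFM
    exact Or.inl (le_antisymm (two_le hG hp2 hE hs hF ht hFM hFE hM) (two_le hG hp2 hF ht hE hs hEM hEF hM.symm))
  · by_cases hR : ⁅E, F⁆ ≤ pCore p G
    · exact Or.inr (quat_commute hp3 hE hs hF hEF (hcore hR))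
    have hFM : ¬ F ≤ centralizer (bM p E : Set G) := fun h =>
      hR ((comm_centralizes_M_le hE hs hFE h).trans (sub_core_le_R hE))
    have hM := small_M_eq hG hE hs hF ht hEF hFE hFM
    have hR' : ¬ ⁅F, E⁆ ≤ pCore p G := fun h => hR ((commutator_comm E F).le.trans h)
    -- mixed types do not occur
    have hmix : ∀ {A B : Subgroup G}, IsSubBlock p A → IsSmallBlock p A → IsSubBlock p B → IsSmallBlock p B →
        A ≤ normalizer (B : Set G) → bM p A = bM p B →
        pCoreOf p A = bW p A → pCoreOf p B ≠ bW p B → ⁅A, B⁆ ≤ pCore p G := by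
      intro A B hA hsA hB htB hAB hMe hlA hlB
      refine comm_le_R_of_trivial hB hlB hAB ?_
      refine ((commutator_mono (sub_core_le_R hB) le_rfl).trans (sub_comm_R hA)).trans ?_
      rw [small_linear hA hsA hlA, hMe]
      exact le_normalizer_iff_commutator_le_left.1 (le_normalizer.trans (normalizer_le_bW B))
    have hlin : pCoreOf p E = bW p E ↔ pCoreOf p F = bW p F :=
      ⟨fun h => by_contra fun h' => hR (hmix hE hs hF ht hEF hM h h'),
        fun h => by_contra fun h' => hR' (hmix hF ht hE hs hFE hM.symm h h')⟩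
    exact Or.inl (le_antisymm (three_le hG hp3 hE hs hF ht hEF hFE hR hM hlin)
      (three_le hG hp3 hF ht hE hs hFE hEF hR' hM.symm hlin.symm))

end CfsgLib.LocalEvenB.SubBlocks
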