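import Cfsg.Agent.Lib.LocalEvenB.SubnormalBlocks.Transport
import Cfsg.Agent.Lib.LocalEvenB.SubnormalBlocks.PairEq

/-!
# Subnormal blocks are equal or commute
-/

set_option autoImplicit false
set_option linter.all false

namespace CfsgLib.LocalEvenB.SubBlocks

open Subgroup Cfsg
open scoped commutatorElement

variable {G : Type*} [Group G] [Finite G] {p : ℕ} [hp : Fact p.Prime] {E F : Subgroup G}

/-- A block with quasisimple quotient is equal to or commutes with every subnormal block. -/
theorem qs_pair (hE : IsSubBlock p E) (hF : IsSubBlock p F)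
    (hq : Cfsg.IsQuasisimple (↥E ⧸ pCore p ↥E)) : E = F ∨ ⁅E, F⁆ = ⊥ := by
  haveI := CfsgLib.Core.normal_pCore p G
  obtain ⟨⟨T, hT⟩, -⟩ := id hE
  obtain ⟨⟨T', hT'⟩, -⟩ := id hF
  obtain ⟨π, hπ⟩ : ∃ π, π = QuotientGroup.mk' (pCore p G) := ⟨_, rfl⟩
  have hπs : Function.Surjective π := hπ ▸ QuotientGroup.mk'_surjective _
  have hk : π.ker = pCore p G := hπ ▸ QuotientGroup.ker_mk' _
  have hcomp : ∀ {X : Subgroup G}, IsSubBlock p X → Cfsg.IsQuasisimple (↥X ⧸ pCore p ↥X) →
      Cfsg.IsComponent (X.map π) := fun {X} hX hXq => by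
    obtain ⟨f⟩ := sub_image_iso hX
    exact ⟨hX.2.map hπs, hπ ▸ CfsgLib.Components.IsQuasisimple.congr f hXq⟩
  have hcase : E.map π = F.map π ∨ ⁅E.map π, F.map π⁆ = ⊥ := by
    rcases block_types hT' with hFq | hFs
    · exact CfsgLib.Components.components_eq_or_commute (hcomp hE hq) (hcomp hF hFq)
    · refine Or.inr (CfsgLib.Components.component_commutes_of_solvable_subnormal (hcomp hE hq)
        (hF.2.map hπs) ?_)
      haveI := small_not_qs hFs
      exact Group.isSolvable_of_surjective (f := π.subgroupMap F) (π.subgroupMap_surjective F)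
  rcases hcase with h | h
  · left
    refine le_antisymm (sub_le_of_le_sup hE hF ?_) (sub_le_of_le_sup hF hE ?_)
    · have h1 := (le_comap_map π E).trans ((congrArg (Subgroup.comap π) h).le)
      rwa [comap_map_eq, hk] at h1
    · have h1 := (le_comap_map π F).trans ((congrArg (Subgroup.comap π) h).ge)
      rwa [comap_map_eq, hk] at h1
  · right
    have hR : ⁅E, F⁆ ≤ pCore p G := by
      rw [← hk, ← Subgroup.map_eq_bot_iff, map_commutator, h]
    have hEF : E ≤ normalizer (F : Set G) := fun e he => sub_mem_normalizer hF fun f hf => by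
      rw [show e * f * e⁻¹ = ⁅e, f⁆ * f by rw [commutatorElement_def]; group]
      exact mul_mem (mem_sup_right (hR (commutator_mem_commutator he hf))) (mem_sup_left hf)
    exact qs_case hT hT' hq hEF ((le_inf (le_normalizer_iff_commutator_le_right.1 hEF) hR).trans (sub_core_eq hF).ge)

theorem small_conj (hE : IsSubBlock p E) (hs : IsSmallBlock p E) (g : G) :
    IsSmallBlock p (E.map (MulAut.conj g).toMonoidHom) := by
  obtain ⟨⟨T', hT'⟩, -⟩ := isSubBlock_conj hE g
  refine (block_types hT').resolve_left fun hq => CfsgLib.Components.IsQuasisimple.not_isSolvable hq ?_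
  haveI := small_not_qs hs
  haveI : Group.IsSolvable ↥(E.map (MulAut.conj g).toMonoidHom) :=
    Group.isSolvable_of_surjective (f := (MulAut.conj g).toMonoidHom.subgroupMap E)
      (MonoidHom.subgroupMap_surjective _ E)
  exact Group.isSolvable_of_surjective (f := QuotientGroup.mk' (pCore p ↥(E.map (MulAut.conj g).toMonoidHom)))
    (QuotientGroup.mk'_surjective _)

theorem omega_comm {a b : G} (ha : a ∈ omegaOneCenter p (pCore p G)) (hb : b ∈ omegaOneCenter p (pCore p G)) :
    a * b = b * a := omegaOneCenter_comm ha hb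

/-- A small subnormal block is normalised by every small subnormal block. -/
theorem small_normalises (hG : centralizer (pCore p G : Set G) ≤ pCore p G) :
    ∀ E F : Subgroup G, IsSubBlock p E → IsSmallBlock p E → IsSubBlock p F → IsSmallBlock p F →
      F ≤ normalizer (E : Set G) := by
  intro E F
  induction hn : Nat.card ↥(E ⊔ F) using Nat.strong_induction_on generalizing E F with
  | _ n ih =>
    intro hE hs hF ht
    obtain ⟨⟨T', hT'⟩, -⟩ := id hF
    obtain hEH | ⟨N, hN, hEN, hNtop⟩ := (hE.2.subgroupOf (K := E ⊔ F)).lt_normal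
    · exact le_sup_right.trans ((subgroupOf_eq_top.1 hEH).trans le_normalizer)
    obtain ⟨N', hN'⟩ : ∃ N', N' = N.map (E ⊔ F).subtype := ⟨_, rfl⟩
    have hcardN : Nat.card N' < n := by
      rw [hN', card_map_of_injective (E ⊔ F).subtype_injective, ← hn]
      exact CfsgLib.Components.card_lt_of_ne_top hNtop.ne
    have hconjN : ∀ a ∈ E ⊔ F, E.map (MulAut.conj a).toMonoidHom ≤ N' := by
      rintro a ha _ ⟨x, hx, rfl⟩
      exact hN' ▸ ⟨⟨a, ha⟩ * ⟨x, mem_sup_left hx⟩ * ⟨a, ha⟩⁻¹,
        hN.conj_mem _ (hEN (mem_subgroupOf.2 hx)) _, rfl⟩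
    -- conjugates are equal or commute
    have hpair : ∀ a ∈ E ⊔ F, ∀ b ∈ E ⊔ F, E.map (MulAut.conj a).toMonoidHom = E.map (MulAut.conj b).toMonoidHom ∨
        ⁅E.map (MulAut.conj a).toMonoidHom, E.map (MulAut.conj b).toMonoidHom⁆ = ⊥ := by
      intro a ha b hb
      have hlt : ∀ x ∈ E ⊔ F, ∀ y ∈ E ⊔ F,
          E.map (MulAut.conj y).toMonoidHom ≤ normalizer (E.map (MulAut.conj x).toMonoidHom : Set G) := fun x hx y hy =>
        ih _ (lt_of_le_of_lt (Subgroup.card_le_of_le (sup_le (hconjN x hx) (hconjN y hy))) hcardN) _ _ rfl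
          (isSubBlock_conj hE x) (small_conj hE hs x) (isSubBlock_conj hE y) (small_conj hE hs y)
      exact small_pair hG (isSubBlock_conj hE a) (small_conj hE hs a) (isSubBlock_conj hE b) (small_conj hE hs b)
        (hlt b hb a ha) (hlt a ha b hb)
    -- the two modules
    obtain ⟨hEV, hVE⟩ := small_V hG hE hs
    obtain ⟨hFV, hVF⟩ := small_V hG hF ht
    obtain ⟨U, hU⟩ : ∃ U, U = bM p E ⊔ bM p F := ⟨_, rfl⟩
    have hUV : U ≤ omegaOneCenter p (pCore p G) := hU ▸ sup_le hEV hFV
    have hUn : E ⊔ F ≤ normalizer (U : Set G) := by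
      refine sup_le (le_normalizer_iff_commutator_le_left.2 ?_) (le_normalizer_iff_commutator_le_left.2 ?_)
      · exact (commutator_mono hUV le_rfl).trans (hVE.trans (hU ▸ le_sup_left))
      · exact (commutator_mono hUV le_rfl).trans (hVF.trans (hU ▸ le_sup_right))
    have hMU : ∀ a ∈ E ⊔ F, bM p (E.map (MulAut.conj a).toMonoidHom) ≤ U := by
      intro a ha
      rw [bM_conj, ← map_conj_eq_self_iff_mem_normalizer.2 (hUn ha)]
      exact map_mono (hU ▸ le_sup_left)
    have hab : ∀ {X Y : Subgroup G}, X ≤ omegaOneCenter p (pCore p G) → Y ≤ omegaOneCenter p (pCore p G) →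
        X ≤ normalizer (Y : Set G) := fun hX hY x hx => centralizer_le_normalizer _
      (mem_centralizer_iff.2 fun y hy => omega_comm (hY hy) (hX hx))
    have hUcard : Nat.card U * Nat.card ↥(bM p E ⊓ bM p F) = p ^ 4 := by
      rw [hU, CfsgLib.Core.card_sup_mul_card_inf _ _ (hab hEV hFV), (small_card_M hE hs).2.2, (small_card_M hF ht).2.2,
        ← pow_add]
    have hUle : Nat.card U ≤ p ^ 4 := hUcard ▸ Nat.le_mul_of_pos_right _ Nat.card_pos
    -- the module of a conjugate meets the centraliser trivially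
    have hdis : ∀ a ∈ E ⊔ F, ∀ X : Subgroup G, X ≤ centralizer (E.map (MulAut.conj a).toMonoidHom : Set G) →
        bM p (E.map (MulAut.conj a).toMonoidHom) ⊓ X = ⊥ := by
      intro a ha X hX
      obtain ⟨-, hinf, -⟩ := small_card_M (isSubBlock_conj hE a) (small_conj hE hs a)
      rw [eq_bot_iff, ← hinf]
      exact le_inf inf_le_left (le_inf (inf_le_left.trans
        (le_normalizer_iff_commutator_le_left.1 (le_normalizer.trans (normalizer_le_bW _)))) (inf_le_right.trans hX))
    have hcent : ∀ a ∈ E ⊔ F, ∀ b ∈ E ⊔ F, E.map (MulAut.conj a).toMonoidHom ≠ E.map (MulAut.conj b).toMonoidHom →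
        bM p (E.map (MulAut.conj b).toMonoidHom) ≤ centralizer (E.map (MulAut.conj a).toMonoidHom : Set G) := by
      intro a ha b hb hne
      have h1 := (hpair b hb a ha).resolve_left (Ne.symm hne)
      rw [commutator_eq_bot_iff_le_centralizer] at h1
      exact (le_normalizer_iff_commutator_le_left.1 (le_normalizer.trans (normalizer_le_bW _))).trans
        (((bW_le _).trans (pCoreOf_le _)).trans h1)
    have hV' : ∀ a ∈ E ⊔ F, bM p (E.map (MulAut.conj a).toMonoidHom) ≤ omegaOneCenter p (pCore p G) :=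
      fun a ha => (hMU a ha).trans hUV
    have hcardM : ∀ a : G, Nat.card (bM p (E.map (MulAut.conj a).toMonoidHom)) = p ^ 2 := fun a =>
      (small_card_M (isSubBlock_conj hE a) (small_conj hE hs a)).2.2
    -- an element moving `E`
    have hsq : ∀ f ∈ F, f ∉ normalizer (E : Set G) →
        f * f ∈ normalizer (E : Set G) ∧ f * f ∈ centralizer (bM p F : Set G) := by
      intro f hf hfE
      have hE1 : E = E.map (MulAut.conj (1 : G)).toMonoidHom := by
        rw [map_one, show (1 : MulAut G).toMonoidHom = MonoidHom.id G from rfl, Subgroup.map_id]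
      have h1H : (1 : G) ∈ E ⊔ F := one_mem _
      have hfH : f ∈ E ⊔ F := mem_sup_right hf
      have h01 : E.map (MulAut.conj (1 : G)).toMonoidHom ≠ E.map (MulAut.conj f).toMonoidHom := by
        rw [← hE1]
        exact fun h => hfE (map_conj_eq_self_iff_mem_normalizer.1 h.symm)
      have h12 : E.map (MulAut.conj f).toMonoidHom ≠ E.map (MulAut.conj (f * f)).toMonoidHom := by
        intro h
        rw [← map_conj_map_conj] at h
        have := map_injective (f := (MulAut.conj f).toMonoidHom) (MulAut.conj f).injective h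
        exact hfE (map_conj_eq_self_iff_mem_normalizer.1 this.symm)
      have hff : f * f ∈ normalizer (E : Set G) := by
        by_contra hcon
        have h02 : E.map (MulAut.conj (1 : G)).toMonoidHom ≠ E.map (MulAut.conj (f * f)).toMonoidHom := by
          rw [← hE1]
          exact fun h => hcon (map_conj_eq_self_iff_mem_normalizer.1 h.symm)
        have hd12 := hdis f hfH _ (hcent f hfH (f * f) (mul_mem hfH hfH) h12)
        have hd0 := hdis 1 h1H _ (sup_le (hcent 1 h1H f hfH h01) (hcent 1 h1H (f * f) (mul_mem hfH hfH) h02))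
        have e1 := CfsgLib.Core.card_sup_of_disjoint _ _ (hab (hV' f hfH) (hV' _ (mul_mem hfH hfH))) hd12
        have e2 := CfsgLib.Core.card_sup_of_disjoint _ _
          (hab (hV' 1 h1H) (sup_le (hV' f hfH) (hV' _ (mul_mem hfH hfH)))) hd0
        rw [e1, hcardM, hcardM, hcardM, ← pow_add, ← pow_add] at e2
        have h6 := e2 ▸ Subgroup.card_le_of_le (sup_le (hMU 1 h1H) (sup_le (hMU f hfH) (hMU _ (mul_mem hfH hfH))))
        have := Nat.pow_le_pow_iff_right hp.out.one_lt |>.1 (h6.trans hUle)
        omega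
      refine ⟨hff, ?_⟩
      have hd := hdis 1 h1H _ (hcent 1 h1H f hfH h01)
      have e1 := CfsgLib.Core.card_sup_of_disjoint _ _ (hab (hV' 1 h1H) (hV' f hfH)) hd
      rw [hcardM, hcardM, ← pow_add, ← hE1] at e1
      have hle : bM p E ⊔ bM p (E.map (MulAut.conj f).toMonoidHom) ≤ U :=
        sup_le (hU ▸ le_sup_left) (hMU f hfH)
      have hUeq : bM p E ⊔ bM p (E.map (MulAut.conj f).toMonoidHom) = U :=
        eq_of_le_of_card_ge hle (hUle.trans e1.ge)
      have hinf : bM p E ⊓ bM p F = ⊥ := by
        refine Subgroup.eq_bot_of_card_le _ ?_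
        rw [hUeq] at e1
        rw [e1] at hUcard
        exact (Nat.eq_of_mul_eq_mul_left (pow_pos hp.out.pos 4) (hUcard.trans (mul_one _).symm)).le
      have hfix : ∀ m ∈ bM p E, f * f * m * (f * f)⁻¹ = m := by
        intro m hm
        have h1 : ⁅f * f, m⁆ ∈ bM p E ⊓ bM p F := by
          refine mem_inf.2 ⟨?_, ?_⟩
          · rw [commutatorElement_def]
            exact mul_mem ((mem_normalizer_iff.1 (normalizer_le_bM E hff) m).1 hm) (inv_mem hm)
          · rw [← commutatorElement_inv]
            exact inv_mem (hVF (commutator_mem_commutator (hEV hm) (mul_mem hf hf)))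
        rw [hinf, mem_bot, commutatorElement_eq_one_iff_mul_comm] at h1
        rw [h1, mul_inv_cancel_right]
      refine mem_centralizer_iff.2 fun x hx => ?_
      have hle2 : bM p E ⊔ bM p (E.map (MulAut.conj f).toMonoidHom) ≤ centralizer ({f * f} : Set G) := by
        refine sup_le (fun m hm => mem_centralizer_singleton_iff.2 (mul_inv_eq_iff_eq_mul.1 (hfix m hm)).symm) ?_
        rw [bM_conj]
        rintro _ ⟨m, hm, rfl⟩
        refine mem_centralizer_singleton_iff.2 (mul_inv_eq_iff_eq_mul.1 ?_).symm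
        show f * f * (f * m * f⁻¹) * (f * f)⁻¹ = f * m * f⁻¹
        rw [show f * f * (f * m * f⁻¹) * (f * f)⁻¹ = f * (f * f * m * (f * f)⁻¹) * f⁻¹ by group, hfix m hm]
      exact mem_centralizer_singleton_iff.1 (hle2 (hUeq.ge (hU ▸ mem_sup_right hx)))
    by_contra hcon
    rcases (show p = 2 ∨ p = 3 from hs.imp (fun h => h.1) (fun h => h.1)) with hp2 | hp3
    · refine hcon (block_le_of_coprime hT' fun f hf hfc => by_contra fun hfE => hfE ?_)
      rw [hp2, Nat.coprime_two_right] at hfc
      obtain ⟨j, hj⟩ := hfc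
      have : f = (f * f) ^ (j + 1) := by
        rw [← pow_two, ← pow_mul, show 2 * (j + 1) = orderOf f + 1 by omega, pow_succ, pow_orderOf_eq_one, one_mul]
      rw [this]
      exact pow_mem (hsq f hf hfE).1 _
    · obtain ⟨f0, hf0, hf0E⟩ := SetLike.not_le_iff_exists.1 hcon
      have hq := quat_M hF ht hp3
      have hMp : IsPGroup 3 (bM p F) := hp3 ▸ (bW_pGroup (p := p) F).to_le
        (le_normalizer_iff_commutator_le_left.1 (le_normalizer.trans (normalizer_le_bW F)))
      have hFn : ∀ x ∈ F, x ∈ normalizer (bM p F : Set G) := fun x hx => normalizer_le_bM F (le_normalizer hx)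
      have hmoved : ∀ f ∈ F, f ∉ normalizer (E : Set G) → SecInv (bM p F) ⊥ f := by
        intro f hf hfE
        rcases quat_trichotomy hq hf with h | h | h
        · exact absurd (sub_R_normalizes hE (sub_core_le_R hF
            (small_kernel_M hF ht ⟨hf, secKer_bot_le_centralizer _ h⟩))) hfE
        · exact h
        · exact (not_inv_and_ker hMp (normalises_bottom _) hq h (mem_secKer_bot (hsq f hf hfE).2)).elim
      obtain ⟨a, ha, -, -, -, haa⟩ := quat_exists hq
      by_cases haE : a ∈ normalizer (E : Set G)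
      · have hfaE : f0 * a ∉ normalizer (E : Set G) := fun h =>
          hf0E (by simpa using mul_mem h (inv_mem haE))
        have h1 := hmoved f0 hf0 hf0E
        have h2 := hmoved _ (mul_mem hf0 ha) hfaE
        have k1 := h1.mul_mem_secKer h2 (normalises_bottom _) (hFn _ hf0) (hFn _ (mul_mem hf0 ha))
          (normalises_bottom _ hf0) (normalises_bottom _ (mul_mem hf0 ha))
        have k2 := mem_secKer_bot (hsq f0 hf0 hf0E).2
        have k3 : a ∈ secKer (bM p F) ⊥ := by
          have := mul_mem (inv_mem k2) k1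
          rwa [show (f0 * f0)⁻¹ * (f0 * (f0 * a)) = a by group] at this
        exact not_inv_and_ker hMp (normalises_bottom _) hq haa (mul_mem k3 k3)
      · exact not_inv_and_ker hMp (normalises_bottom _) hq haa (mem_secKer_bot (hsq a ha haE).2)

/-- Subnormal blocks are equal or commute. -/
theorem sub_blocks_eq_or_commute (hG : centralizer (pCore p G : Set G) ≤ pCore p G)
    (hE : IsSubBlock p E) (hF : IsSubBlock p F) : E = F ∨ ⁅E, F⁆ = ⊥ := by
  obtain ⟨⟨T, hT⟩, -⟩ := id hE
  obtain ⟨⟨T', hT'⟩, -⟩ := id hF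
  rcases block_types hT with hq | hs
  · exact qs_pair hE hF hq
  rcases block_types hT' with hq | ht
  · exact (qs_pair hF hE hq).imp Eq.symm fun h => by rw [commutator_comm, h]
  exact small_pair hG hE hs hF ht (small_normalises hG F E hF ht hE hs) (small_normalises hG E F hE hs hF ht)

end CfsgLib.LocalEvenB.SubBlocks
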