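import Cfsg.Agent.Lib.LocalEvenB.SubnormalBlocks.SubFacts

/-!
# Two blocks normalising each other: general steps
-/

set_option autoImplicit false
set_option linter.all false

namespace CfsgLib.LocalEvenB.SubBlocks

open Subgroup Cfsg
open scoped commutatorElement

variable {G : Type*} [Group G] [Finite G] {p : ℕ} [hp : Fact p.Prime] {E F : Subgroup G}

theorem normalises_bottom (E : Subgroup G) : E ≤ normalizer ((⊥ : Subgroup G) : Set G) := fun z _ =>
  mem_normalizer_iff.2 fun h => by simp [mem_bot, conj_eq_one_iff]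

theorem le_normalizer_core (h : E ≤ normalizer (F : Set G)) : E ≤ normalizer (pCoreOf p F : Set G) :=
  h.trans (CfsgLib.LocalEven.normalizer_le_normalizer_pCoreOf F)

theorem core_le_secKer_QW {T : Subgroup G} (hF : IsBaumannBlock p T F) :
    pCoreOf p F ≤ secKer (pCoreOf p F) (bW p F) := by
  intro q hq
  refine mem_secKer.2 ⟨le_normalizer hq, core_le_normalizer_bW F hq, fun u hu => ?_⟩
  rcases block_linear_or_exceptional hF with hl | ⟨-, -, -, hcom, -⟩
  · rw [← hl]
    exact mul_mem (mul_mem (mul_mem hq hu) (inv_mem hq)) (inv_mem hu)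
  · exact (hcom.le.trans inf_le_left) (commutator_mem_commutator hq hu)

theorem core_le_secKer_QW_normalizer {T : Subgroup G} (hF : IsBaumannBlock p T F) :
    ⁅pCoreOf p F, pCoreOf p F⁆ ≤ bW p F :=
  commutator_le.2 fun q hq u hu => (mem_secKer.1 (core_le_secKer_QW hF hq)).2.2 u hu

/-- An element commuting with a block modulo a centralised core commutes with it. -/
theorem comm_eq_bot_of_centralizes {T : Subgroup G} (hE : IsBaumannBlock p T E)
    (hcom : ⁅E, F⁆ ≤ pCoreOf p F) (h : ∀ e ∈ E, (orderOf e).Coprime p → e ∈ centralizer (pCoreOf p F : Set G)) :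
    ⁅E, F⁆ = ⊥ := by
  rw [commutator_eq_bot_iff_le_centralizer]
  refine block_le_of_coprime hE fun e he hec => ?_
  refine mem_centralizer_iff.2 fun f hf => ?_
  obtain ⟨c, hc⟩ : ∃ c, c = e * f * e⁻¹ * f⁻¹ := ⟨_, rfl⟩
  have hcQ : c ∈ pCoreOf p F := hc ▸ hcom (commutator_mem_commutator he hf)
  have hce : e * c = c * e := (mem_centralizer_iff.1 (h e he hec) c hcQ).symm
  have hn : ∀ n : ℕ, e ^ n * f * (e ^ n)⁻¹ = c ^ n * f := by
    intro n
    induction n with
    | zero => simp
    | succ n ih =>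
      calc e ^ (n + 1) * f * (e ^ (n + 1))⁻¹ = e * (e ^ n * f * (e ^ n)⁻¹) * e⁻¹ := by rw [pow_succ']; group
        _ = (e * c ^ n * e⁻¹) * (e * f * e⁻¹) := by rw [ih]; group
        _ = c ^ (n + 1) * f := by
          rw [← conj_pow, hce, mul_inv_cancel_right, pow_succ, hc]; group
  have h1 := hn (orderOf e)
  rw [pow_orderOf_eq_one, one_mul, inv_one, mul_one] at h1
  obtain ⟨k, hk⟩ := isPGroup_pCoreOf F ⟨c, hcQ⟩
  have h2 : orderOf c = 1 := Nat.eq_one_of_dvd_coprimes (hec.pow_right k)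
    (orderOf_dvd_of_pow_eq_one (mul_eq_right.1 h1.symm)) (orderOf_dvd_of_pow_eq_one (congrArg Subtype.val hk))
  rw [orderOf_eq_one_iff, hc, mul_inv_eq_one, mul_inv_eq_iff_eq_mul] at h2
  exact h2.symm

/-- A `p'`-element trivial on both sections and commuting with the block modulo the core
centralises the core. -/
theorem centralizes_core {T : Subgroup G} (hF : IsBaumannBlock p T F) {X : Subgroup G}
    (hXF : X ≤ normalizer (F : Set G)) (hcom : ⁅X, F⁆ ≤ pCoreOf p F) (hW : X ≤ secKer (bW p F) (bZ p F))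
    (hQ : pCoreOf p F ≠ bW p F → X ≤ secKer (pCoreOf p F) (bW p F))
    {g : G} (hg : g ∈ X) (hgc : (orderOf g).Coprime p) : g ∈ centralizer (pCoreOf p F : Set G) := by
  by_cases hl : pCoreOf p F = bW p F
  · have h1 : ⁅⁅bW p F, X⁆, F⁆ = ⊥ := by
      rw [commutator_eq_bot_iff_le_centralizer]
      refine (commutator_le.2 fun w hw x hx => ?_ : ⁅bW p F, X⁆ ≤ bZ p F).trans inf_le_right
      have h2 := inv_mem ((mem_secKer.1 (hW hx)).2.2 w hw)
      rwa [show (x * w * x⁻¹ * w⁻¹)⁻¹ = ⁅w, x⁆ by rw [commutatorElement_def]; group] at h2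
    have h2 : ⁅⁅X, F⁆, bW p F⁆ = ⊥ := by
      rw [commutator_eq_bot_iff_le_centralizer]
      exact fun c hc => mem_centralizer_iff.2 fun w hw => (core_commutes_bW (hcom hc) hw).symm
    have h3 := commutator_commutator_eq_bot_of_rotate h1 h2
    rw [commutator_comm F, ← hl, hF.2.2.1, commutator_eq_bot_iff_le_centralizer] at h3
    exact mem_centralizer_iff.2 fun q hq => (mem_centralizer_iff.1 (h3 hq) g hg).symm
  · rcases block_linear_or_exceptional hF with hl' | ⟨-, -, -, hQQ, -⟩
    · exact absurd hl' hl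
    have hQZ := coprime_stab (isPGroup_pCoreOf F) (bW_le F) (bW_le_normalizer_bZ F) hgc (hQ hl hg) (hW hg)
    have hfix : bZ p F ≤ centralizer ({g} : Set G) := by
      rw [← hQQ, commutator_le]
      intro x hx y hy
      rw [mem_centralizer_singleton_iff]
      obtain ⟨c, hcZ, hc⟩ : ∃ c ∈ bZ p F, g * x * g⁻¹ = c * x := ⟨_, (mem_secKer.1 hQZ).2.2 x hx, by group⟩
      obtain ⟨d, hdZ, hd⟩ : ∃ d ∈ bZ p F, g * y * g⁻¹ = d * y := ⟨_, (mem_secKer.1 hQZ).2.2 y hy, by group⟩
      have hcx := core_commutes_bW hx hcZ.1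
      have hcy := core_commutes_bW hy hcZ.1
      have hdx := core_commutes_bW hx hdZ.1
      have hdy := core_commutes_bW hy hdZ.1
      have hcd := omegaOneCenter_comm hcZ.1 hdZ.1
      have hcinv : c⁻¹ * d = d * c⁻¹ := (Commute.inv_left (show Commute c d from hcd)).eq
      have key : g * ⁅x, y⁆ * g⁻¹ = ⁅x, y⁆ := by
        rw [commutatorElement_def, show g * (x * y * x⁻¹ * y⁻¹) * g⁻¹ =
          (g * x * g⁻¹) * (g * y * g⁻¹) * (g * x * g⁻¹)⁻¹ * (g * y * g⁻¹)⁻¹ by group, hc, hd]
        calc c * x * (d * y) * (c * x)⁻¹ * (d * y)⁻¹ = c * (x * d) * y * x⁻¹ * c⁻¹ * y⁻¹ * d⁻¹ := by group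
          _ = c * d * (x * y * x⁻¹) * c⁻¹ * y⁻¹ * d⁻¹ := by rw [hdx]; group
          _ = c * d * (c⁻¹ * (x * y * x⁻¹ * y⁻¹)) * d⁻¹ := by
            have h1 : (x * y * x⁻¹) * c⁻¹ = c⁻¹ * (x * y * x⁻¹) :=
              (Commute.inv_right (show Commute (x * y * x⁻¹) c from
                ((show Commute x c from hcx).mul_left hcy).mul_left (Commute.inv_left hcx))).eq
            rw [show c * d * (x * y * x⁻¹) * c⁻¹ = c * d * ((x * y * x⁻¹) * c⁻¹) by group, h1]
            group
          _ = x * y * x⁻¹ * y⁻¹ := by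
            have h2 : (x * y * x⁻¹ * y⁻¹) * d⁻¹ = d⁻¹ * (x * y * x⁻¹ * y⁻¹) :=
              (Commute.inv_right (show Commute (x * y * x⁻¹ * y⁻¹) d from
                (((show Commute x d from hdx).mul_left hdy).mul_left (Commute.inv_left hdx)).mul_left (Commute.inv_left hdy))).eq
            rw [show c * d * (c⁻¹ * (x * y * x⁻¹ * y⁻¹)) * d⁻¹ = c * d * c⁻¹ * ((x * y * x⁻¹ * y⁻¹) * d⁻¹) by group,
              h2, hcd, mul_inv_cancel_right, mul_inv_cancel_left]
      rw [mul_inv_eq_iff_eq_mul] at key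
      exact key.symm
    refine secKer_bot_le_centralizer _ (coprime_stab (isPGroup_pCoreOf F) (inf_le_left.trans (bW_le F))
      (normalises_bottom _) hgc hQZ (mem_secKer_bot ?_))
    exact mem_centralizer_iff.2 fun z hz => mem_centralizer_singleton_iff.1 (hfix hz)

theorem block_perfect_of_qs {T : Subgroup G} (hE : IsBaumannBlock p T E)
    (hq : Cfsg.IsQuasisimple (↥E ⧸ pCore p ↥E)) : ⁅E, E⁆ = E := by
  refine le_antisymm (commutator_le.2 fun a ha b hb => mul_mem (mul_mem (mul_mem ha hb) (inv_mem ha)) (inv_mem hb)) ?_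
  intro x hx
  haveI := hq.1
  have h1 : ((commutator ↥E).map (QuotientGroup.mk' (pCore p ↥E))) = ⊤ := by
    rw [commutator_def, map_commutator, map_top_of_surjective _ (QuotientGroup.mk'_surjective _), ← commutator_def]
    exact Group.isPerfect_def.mp hq.1
  have h2 : ((⟨x, hx⟩ : ↥E) : ↥E ⧸ pCore p ↥E) ∈ (commutator ↥E).map (QuotientGroup.mk' (pCore p ↥E)) := h1 ▸ mem_top _
  obtain ⟨y, hy, hyx⟩ := h2
  have h3 : (y : G) ∈ ⁅E, E⁆ := by
    have := mem_map_of_mem E.subtype hy
    rwa [map_subtype_commutator] at this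
  rw [QuotientGroup.mk'_apply, QuotientGroup.eq] at hyx
  have h4 : (y : G)⁻¹ * x ∈ ⁅E, E⁆ := by
    refine (hE.2.2.1.symm.le.trans (commutator_mono (pCoreOf_le E) le_rfl)) ?_
    exact ⟨_, hyx, by simp⟩
  simpa using mul_mem h3 h4

theorem comm_le_secKer (hE : E ≤ normalizer (F : Set G)) {T : Subgroup G} (hF : IsBaumannBlock p T F)
    (hcom : ⁅E, F⁆ ≤ pCoreOf p F) :
    ⁅E, E⁆ ≤ secKer (bW p F) (bZ p F) ∧
      (pCoreOf p F ≠ bW p F → ⁅E, E⁆ ≤ secKer (pCoreOf p F) (bW p F)) := by
  refine ⟨commutator_le_secKer (le_normalizer.trans (normalizer_le_bW F)) (le_normalizer.trans (normalizer_le_bZ F))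
    (hE.trans (normalizer_le_bW F)) (hE.trans (normalizer_le_bZ F)) inf_le_left (bW_le_normalizer_bZ F)
    (bW_commutator_le F) (block_irr_WZ hF) (hcom.trans (core_le_secKer_WZ F)), fun hl => ?_⟩
  rcases block_linear_or_exceptional hF with hl' | ⟨-, hirr, -, -, -⟩
  · exact absurd hl' hl
  exact commutator_le_secKer (le_normalizer.trans (CfsgLib.LocalEven.normalizer_le_normalizer_pCoreOf F))
    (le_normalizer.trans (normalizer_le_bW F))
    (le_normalizer_core hE) (hE.trans (normalizer_le_bW F)) (bW_le F) (core_le_normalizer_bW F)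
    (core_le_secKer_QW_normalizer hF) hirr (hcom.trans (core_le_secKer_QW hF))

/-- A block with perfect quotient commutes with every block it normalises and commutes with modulo the core. -/
theorem qs_case {T T' : Subgroup G} (hE : IsBaumannBlock p T E) (hF : IsBaumannBlock p T' F)
    (hq : Cfsg.IsQuasisimple (↥E ⧸ pCore p ↥E)) (hEF : E ≤ normalizer (F : Set G))
    (hcom : ⁅E, F⁆ ≤ pCoreOf p F) : ⁅E, F⁆ = ⊥ := by
  have hp' := block_perfect_of_qs hE hq
  obtain ⟨h1, h2⟩ := comm_le_secKer hEF hF hcom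
  rw [hp'] at h1 h2
  exact comm_eq_bot_of_centralizes hE hcom fun e he hec => centralizes_core hF hEF hcom h1 h2 he hec

theorem sub_secKer_R (hE : IsSubBlock p E) : E ≤ secKer (pCore p G) (pCoreOf p E) := by
  haveI : (pCore p G).Normal := CfsgLib.Core.normal_pCore p G
  intro e he
  refine mem_secKer.2 ⟨by rw [normalizer_eq_top]; exact mem_top e,
    CfsgLib.LocalEven.normalizer_le_normalizer_pCoreOf E (le_normalizer he), fun r hr => ?_⟩
  have h1 := sub_comm_R hE (commutator_mem_commutator hr he)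
  have h2 := inv_mem h1
  rwa [commutatorElement_inv, commutatorElement_def] at h2

theorem mem_R_of_centralizes (hG : centralizer (pCore p G : Set G) ≤ pCore p G) {k : G}
    (hk : haveI := CfsgLib.Core.normal_pCore p G
      QuotientGroup.mk' (pCore p G) k ∈ pPrimeCore p (G ⧸ pCore p G))
    (h : ∀ a : ℕ, (orderOf (k ^ p ^ a)).Coprime p → k ^ p ^ a ∈ centralizer (pCore p G : Set G)) :
    k ∈ pCore p G := by
  haveI := CfsgLib.Core.normal_pCore p G
  obtain ⟨a, ha⟩ := CfsgLib.Transfer.exists_pow_prime_pow_coprime (p := p) k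
  have h1 := hG (h a ha)
  rw [← QuotientGroup.eq_one_iff, QuotientGroup.mk_pow] at h1
  have h2 : (orderOf (QuotientGroup.mk' (pCore p G) k)).Coprime p := by
    refine Nat.Coprime.coprime_dvd_left ?_ (CfsgLib.Components.pPrimeCore_coprime (G := G ⧸ pCore p G) p)
    have := orderOf_dvd_natCard (⟨_, hk⟩ : pPrimeCore p (G ⧸ pCore p G))
    rwa [Subgroup.orderOf_mk] at this
  rw [← QuotientGroup.eq_one_iff, ← orderOf_eq_one_iff]
  exact Nat.eq_one_of_dvd_coprimes (h2.pow_right a) dvd_rfl (orderOf_dvd_of_pow_eq_one h1)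

theorem small_image_le (hE : IsSubBlock p E) (hs : IsSmallBlock p E) :
    haveI := CfsgLib.Core.normal_pCore p G
    E.map (QuotientGroup.mk' (pCore p G)) ≤ pPrimeCore p (G ⧸ pCore p G) := by
  haveI := CfsgLib.Core.normal_pCore p G
  obtain ⟨f⟩ := sub_image_iso hE
  refine CfsgLib.Components.subnormal_coprime_le_pPrimeCore (hE.2.map (QuotientGroup.mk'_surjective _)) ?_
  rw [← Nat.card_congr f.toEquiv]
  exact small_coprime hs

end CfsgLib.LocalEvenB.SubBlocks
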