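import Cfsg.Agent.Lib.Components.Component
import Cfsg.Agent.Lib.LocalEvenB.SubnormalBlocks.Data

/-!
# Subnormal blocks and the `p`-core
-/

set_option autoImplicit false
set_option linter.all false

namespace CfsgLib.LocalEvenB.SubBlocks

open Subgroup Cfsg
open scoped commutatorElement

variable {G : Type*} [Group G] [Finite G] {p : ℕ} [hp : Fact p.Prime] {E F : Subgroup G}

theorem sub_R_normalizes (hE : IsSubBlock p E) : pCore p G ≤ normalizer (E : Set G) := by
  obtain ⟨⟨T, hT⟩, -⟩ := hE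
  haveI : (pCore p G).Normal := CfsgLib.Core.normal_pCore p G
  exact block_normalized T hT (CfsgLib.Core.isPGroup_pCore p G) (by rw [normalizer_eq_top]; exact le_top)
    (by rw [normalizer_eq_top]; exact le_top)

theorem sub_core_eq (hE : IsSubBlock p E) : pCoreOf p E = E ⊓ pCore p G := by
  haveI : (pCore p G).Normal := CfsgLib.Core.normal_pCore p G
  refine le_antisymm (le_inf (pCoreOf_le E) ?_) ?_
  · haveI : (pCoreOf p E).IsSubnormal → True := fun _ => trivial
    refine CfsgLib.Components.subnormal_pGroup_le_pCore ?_ (isPGroup_pCoreOf E)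
    exact IsSubnormal.trans' (normal_of_characteristic (pCore p ↥E)).isSubnormal hE.2
  · refine le_pCoreOf inf_le_left ((CfsgLib.Core.isPGroup_pCore p G).to_le inf_le_right) ?_
    exact (le_inf le_normalizer (by rw [normalizer_eq_top]; exact le_top)).trans inf_normalizer_le_normalizer_inf

theorem sub_core_le_R (hE : IsSubBlock p E) : pCoreOf p E ≤ pCore p G :=
  (sub_core_eq hE).le.trans inf_le_right

theorem sub_comm_R (hE : IsSubBlock p E) : ⁅pCore p G, E⁆ ≤ pCoreOf p E := by
  haveI : (pCore p G).Normal := CfsgLib.Core.normal_pCore p G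
  rw [sub_core_eq hE]
  exact le_inf (le_normalizer_iff_commutator_le_right.1 (sub_R_normalizes hE))
    (commutator_le_left _ _)

/-- A `p'`-element of `E R` lies in `E`. -/
theorem sub_mem_of_coprime (hE : IsSubBlock p E) {g : G} (hg : g ∈ E ⊔ pCore p G)
    (hgc : (orderOf g).Coprime p) : g ∈ E :=
  mem_of_coprime_sup (CfsgLib.Core.isPGroup_pCore p G) (sub_R_normalizes hE) hg hgc

theorem sub_mem_normalizer (hE : IsSubBlock p E) {g : G}
    (h : ∀ x ∈ E, g * x * g⁻¹ ∈ E ⊔ pCore p G) : g ∈ normalizer (E : Set G) := by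
  obtain ⟨⟨T, hT⟩, -⟩ := id hE
  refine mem_normalizer_of_forall fun x hx => ?_
  have hle : E ≤ E.comap (MulAut.conj g).toMonoidHom := block_le_of_coprime hT fun y hy hyc =>
    sub_mem_of_coprime hE (h y hy) (by rwa [orderOf_injective (MulAut.conj g).toMonoidHom (MulEquiv.injective _) y])
  exact hle hx

theorem sub_le_of_le_sup (hE : IsSubBlock p E) (hF : IsSubBlock p F) (h : E ≤ F ⊔ pCore p G) : E ≤ F := by
  obtain ⟨⟨T, hT⟩, -⟩ := id hE
  exact block_le_of_coprime hT fun y hy hyc => sub_mem_of_coprime hF (h hy) hyc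

/-- The image in `G / O_p(G)`. -/
theorem sub_image_iso (hE : IsSubBlock p E) :
    haveI := CfsgLib.Core.normal_pCore p G
    Nonempty (↥E ⧸ pCore p ↥E ≃* ↥(E.map (QuotientGroup.mk' (pCore p G)))) := by
  haveI := CfsgLib.Core.normal_pCore p G
  have hk : ((QuotientGroup.mk' (pCore p G)).subgroupMap E).ker = pCore p ↥E := by
    ext x
    have h1 : x ∈ ((QuotientGroup.mk' (pCore p G)).subgroupMap E).ker ↔ (x : G) ∈ pCore p G := by
      rw [MonoidHom.mem_ker, ← Subtype.coe_inj]
      exact QuotientGroup.eq_one_iff (x : G)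
    rw [h1]
    constructor
    · intro hx
      have h2 : (x : G) ∈ pCoreOf p E := (sub_core_eq hE).ge ⟨x.2, hx⟩
      obtain ⟨y, hy, e⟩ := h2
      rwa [← Subtype.ext (e : (y : G) = x)]
    · intro hx
      exact sub_core_le_R hE (mem_map_of_mem _ hx)
  exact ⟨(QuotientGroup.quotientMulEquivOfEq hk.symm).trans
    (QuotientGroup.quotientKerEquivOfSurjective _ (MonoidHom.subgroupMap_surjective _ E))⟩

theorem sub_centralizes (hG : centralizer (pCore p G : Set G) ≤ pCore p G) {k : G}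
    (hk : k ∈ centralizer (pCore p G : Set G)) : k ∈ pCore p G := hG hk

section Small

theorem small_not_qs (hs : IsSmallBlock p E) : Group.IsSolvable ↥E := by
  have hQ : Group.IsSolvable ↥(pCore p ↥E) := by
    haveI := (CfsgLib.Core.isPGroup_pCore p ↥E).isNilpotent
    infer_instance
  haveI : Group.IsSolvable (↥E ⧸ pCore p ↥E) := by
    rcases hs with ⟨-, h, -⟩ | ⟨-, h, -⟩
    · haveI : Fact (Nat.Prime 3) := ⟨Nat.prime_three⟩
      haveI := (IsPGroup.of_card (p := 3) (n := 1) (by rw [h]; rfl) : IsPGroup 3 (↥E ⧸ pCore p ↥E)).isNilpotent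
      infer_instance
    · haveI : Fact (Nat.Prime 2) := ⟨Nat.prime_two⟩
      haveI := (IsPGroup.of_card (p := 2) (n := 3) (by rw [h]; rfl) : IsPGroup 2 (↥E ⧸ pCore p ↥E)).isNilpotent
      infer_instance
  exact Group.isSolvable_of_ker_le_range (pCore p ↥E).subtype (QuotientGroup.mk' (pCore p ↥E)) (by simp)

theorem small_coprime (hs : IsSmallBlock p E) : (Nat.card (↥E ⧸ pCore p ↥E)).Coprime p := by
  rcases hs with ⟨rfl, h, -⟩ | ⟨rfl, h, -⟩ <;> rw [h] <;> norm_num

/-- A complement of the core of a small block. -/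
theorem small_complement (hs : IsSmallBlock p E) :
    ∃ A : Subgroup G, A ≤ E ∧ (Nat.card A).Coprime p ∧ E ≤ A ⊔ pCoreOf p E := by
  obtain ⟨c, hc⟩ := IsPGroup.iff_card.1 (CfsgLib.Core.isPGroup_pCore p ↥E)
  obtain ⟨K, hK⟩ := exists_right_complement'_of_coprime (N := pCore p ↥E) (by
    rw [hc, Subgroup.index_eq_card]; exact ((small_coprime hs).pow_right c).symm)
  refine ⟨K.map E.subtype, map_subtype_le _, ?_, ?_⟩
  · rw [card_map_of_injective E.subtype_injective, ← hK.symm.index_eq_card, Subgroup.index_eq_card]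
    exact small_coprime hs
  · rw [pCoreOf, ← Subgroup.map_sup, sup_comm, hK.sup_eq_top, ← MonoidHom.range_eq_map, range_subtype]

theorem small_card_M (hE : IsSubBlock p E) (hs : IsSmallBlock p E) :
    bM p E ⊔ bZ p E = bW p E ∧ bM p E ⊓ bZ p E = ⊥ ∧ Nat.card (bM p E) = p ^ 2 := by
  obtain ⟨⟨T, hT⟩, -⟩ := id hE
  obtain ⟨A, hAE, hAc, hEA⟩ := small_complement hs
  haveI : IsMulCommutative (bW p E) := ⟨⟨fun a b => Subtype.ext (omegaOneCenter_comm a.2 b.2)⟩⟩
  have hEW : E ≤ normalizer (bW p E : Set G) := le_normalizer.trans (normalizer_le_bW E)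
  have hAW : A ≤ normalizer (bW p E : Set G) := hAE.trans hEW
  obtain ⟨c, hc⟩ := IsPGroup.iff_card.1 (bW_pGroup (p := p) E)
  have hcop : (Nat.card A).Coprime (Nat.card (bW p E)) := hc ▸ hAc.pow_right c
  have hsol : Group.IsSolvable A ∨ Group.IsSolvable (bW p E) := by
    right
    haveI := (bW_pGroup (p := p) E).isNilpotent
    infer_instance
  have hM : bM p E = ⁅bW p E, A⁆ := by
    refine le_antisymm ?_ (commutator_mono le_rfl hAE)
    refine commutator_le.2 fun w hw e he => ?_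
    have he' := hEA he
    rw [CfsgLib.Core.mem_sup_iff_mul (hAE.trans (le_normalizer.trans (CfsgLib.LocalEven.normalizer_le_normalizer_pCoreOf E)))] at he'
    obtain ⟨a, ha, q, hq, rfl⟩ := he'
    have hwq := core_commutes_bW hq hw
    rw [show ⁅w, a * q⁆ = ⁅w, a⁆ by
      rw [commutatorElement_def, commutatorElement_def,
        show w * (a * q) * w⁻¹ * (a * q)⁻¹ = w * a * (q * w⁻¹ * q⁻¹) * a⁻¹ by group,
        show q * w⁻¹ * q⁻¹ = w⁻¹ by
          rw [show q * w⁻¹ * q⁻¹ = (q * w * q⁻¹)⁻¹ by group, hwq, mul_inv_cancel_right]]]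
    exact commutator_mem_commutator hw ha
  have hZ : bZ p E = bW p E ⊓ centralizer (A : Set G) := by
    refine le_antisymm (inf_le_inf_left _ (centralizer_le hAE)) fun w hw => ⟨hw.1, mem_centralizer_iff.2 fun e he => ?_⟩
    have he' := hEA he
    have hle : A ⊔ pCoreOf p E ≤ centralizer ({w} : Set G) := sup_le
      (fun a ha => mem_centralizer_singleton_iff.2 (mem_centralizer_iff.1 hw.2 a ha))
      (fun q hq => mem_centralizer_singleton_iff.2 (core_commutes_bW hq hw.1))
    exact mem_centralizer_singleton_iff.1 (hle he')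
  have hinf : bM p E ⊓ bZ p E = ⊥ := by
    rw [hM, hZ, inf_comm]
    exact CfsgLib.Core.abelian_inf_eq_bot hAW hcop
  have hsup : bM p E ⊔ bZ p E = bW p E := by
    rw [hM, hZ]
    exact CfsgLib.Core.commutator_sup_centralizer hAW hcop hsol
  refine ⟨hsup, hinf, ?_⟩
  have h1 : Nat.card (bW p E) = p ^ 2 * Nat.card (bZ p E) := by
    rcases hs with ⟨hp2, -, h, -⟩ | ⟨hp3, -, h, -⟩
    · rw [h, hp2]; rfl
    · rw [acts_card h, Nat.card_zmod, hp3]
  have hMW : bM p E ≤ bW p E := le_normalizer_iff_commutator_le_left.1 hEW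
  haveI hn : ((bZ p E).subgroupOf (bW p E)).Normal :=
    (normal_subgroupOf_iff_le_normalizer inf_le_left).2 (bW_le_normalizer_bZ E)
  have hlower := card_mul_card_le_sup_inf (bM p E) (bZ p E)
  rw [hsup, hinf, Subgroup.card_bot, mul_one, h1] at hlower
  have hupper : Nat.card (bW p E) ≤ Nat.card (bM p E) * Nat.card (bZ p E) := by
    have hle : (bW p E : Set G) ⊆ (fun x : ↥(bM p E) × ↥(bZ p E) => (x.1 : G) * x.2) '' Set.univ := by
      intro w hw
      rw [SetLike.mem_coe, ← hsup, CfsgLib.Core.mem_sup_iff_mul (hMW.trans (bW_le_normalizer_bZ E))] at hw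
      obtain ⟨a, ha, b, hb, rfl⟩ := hw
      exact ⟨(⟨a, ha⟩, ⟨b, hb⟩), trivial, rfl⟩
    have := (Set.ncard_le_ncard hle).trans (Set.ncard_image_le)
    rwa [Set.ncard_univ, Nat.card_prod, ← Nat.card_coe_set_eq] at this
  rw [h1] at hupper
  exact Nat.eq_of_mul_eq_mul_right Nat.card_pos (le_antisymm hlower hupper)

theorem small_irr_M (hE : IsSubBlock p E) (hs : IsSmallBlock p E) : Irr E (bM p E) ⊥ := by
  obtain ⟨⟨T, hT⟩, -⟩ := id hE
  obtain ⟨hsup, hinf, -⟩ := small_card_M hE hs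
  intro X _ hXM hEX
  have hMW : bM p E ≤ bW p E :=
    le_normalizer_iff_commutator_le_left.1 (le_normalizer.trans (normalizer_le_bW E))
  have hEXZ : E ≤ normalizer ((X ⊔ bZ p E : Subgroup G) : Set G) := fun e he => by
    refine mem_normalizer_of_forall fun x hx => ?_
    have h1 : x ∈ (X ⊔ bZ p E).comap (MulAut.conj e).toMonoidHom := by
      have hle : X ⊔ bZ p E ≤ (X ⊔ bZ p E).comap (MulAut.conj e).toMonoidHom := by
        refine sup_le (fun y hy => ?_) (fun y hy => ?_)
        · exact mem_sup_left ((mem_normalizer_iff.1 (hEX he) y).1 hy)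
        · exact mem_sup_right ((mem_normalizer_iff.1 (normalizer_le_bZ E (le_normalizer he)) y).1 hy)
      exact hle hx
    exact h1
  rcases block_irr_WZ hT (X ⊔ bZ p E) le_sup_right (sup_le (hXM.trans hMW) inf_le_left) hEXZ with h | h
  · left
    rw [eq_bot_iff, ← hinf]
    exact le_inf hXM (le_sup_left.trans h.le)
  · right
    refine le_antisymm hXM fun m hm => ?_
    have h1 := h.ge (hMW hm)
    rw [CfsgLib.Core.mem_sup_iff_mul (hXM.trans (hMW.trans (bW_le_normalizer_bZ E)))] at h1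
    obtain ⟨x, hx, z, hz, rfl⟩ := h1
    have h2 : z ∈ bM p E ⊓ bZ p E := ⟨by simpa using mul_mem (inv_mem (hXM hx)) hm, hz⟩
    rw [hinf, mem_bot] at h2
    rwa [h2, mul_one]

theorem small_kernel_M (hE : IsSubBlock p E) (hs : IsSmallBlock p E) :
    E ⊓ centralizer (bM p E : Set G) ≤ pCoreOf p E := by
  obtain ⟨⟨T, hT⟩, -⟩ := id hE
  obtain ⟨hsup, -, -⟩ := small_card_M hE hs
  intro e he
  refine (block_module hT).2.2 e he.1 fun v hv => ?_
  have hle : bM p E ⊔ bZ p E ≤ centralizer ({e} : Set G) := sup_le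
    (fun m hm => mem_centralizer_singleton_iff.2 (mem_centralizer_iff.1 he.2 m hm))
    (fun z hz => mem_centralizer_singleton_iff.2 (mem_centralizer_iff.1 hz.2 e he.1).symm)
  exact (mem_centralizer_singleton_iff.1 (hle (hsup.ge hv))).symm

theorem small_linear (hE : IsSubBlock p E) (hs : IsSmallBlock p E) (hl : pCoreOf p E = bW p E) :
    pCoreOf p E = bM p E := by
  obtain ⟨⟨T, hT⟩, -⟩ := id hE
  conv_lhs => rw [← hT.2.2.1, hl]

theorem small_two_linear (hs : IsSmallBlock p E) (hp2 : p = 2) : pCoreOf p E = bW p E := by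
  rcases hs with ⟨-, -, -, h⟩ | ⟨h, -⟩
  · exact h
  · exact absurd (hp2.symm.trans h) (by decide)

theorem small_V (hG : centralizer (pCore p G : Set G) ≤ pCore p G) (hE : IsSubBlock p E) (hs : IsSmallBlock p E) :
    bM p E ≤ omegaOneCenter p (pCore p G) ∧ ⁅omegaOneCenter p (pCore p G), E⁆ ≤ bM p E := by
  obtain ⟨⟨T, hT⟩, -⟩ := id hE
  refine ⟨(block_location hG T E hT).2.1, ?_⟩
  obtain ⟨A, hAE, hAc, hEA⟩ := small_complement hs
  obtain ⟨V, hV⟩ : ∃ V, V = omegaOneCenter p (pCore p G) := ⟨_, rfl⟩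
  rw [← hV]
  haveI : (pCore p G).Normal := CfsgLib.Core.normal_pCore p G
  have hVR : V ≤ pCore p G := hV ▸ (CfsgLib.PGroups.omegaOne_le _).trans inf_le_left
  have hVn : ∀ g : G, g ∈ normalizer (V : Set G) := fun g =>
    hV ▸ normalizer_le_normalizer_omegaOneCenter _ (by rw [normalizer_eq_top]; exact mem_top g)
  obtain ⟨c, hc⟩ := IsPGroup.iff_card.1 ((CfsgLib.Core.isPGroup_pCore p G).to_le hVR)
  have hcop : (Nat.card A).Coprime (Nat.card V) := hc ▸ hAc.pow_right c
  have hsol : Group.IsSolvable A ∨ Group.IsSolvable V := by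
    right
    haveI := ((CfsgLib.Core.isPGroup_pCore p G).to_le hVR).isNilpotent
    infer_instance
  have hVA : ⁅V, A⁆ ≤ bW p E := by
    refine commutator_le.2 fun v hv a ha => subset_closure ⟨?_, ?_⟩
    · have hQ : ⁅v, a⁆ ∈ pCoreOf p E := sub_comm_R hE (commutator_mem_commutator (hVR hv) (hAE ha))
      have hvV : ⁅v, a⁆ ∈ V := le_normalizer_iff_commutator_le_left.1 (fun g _ => hVn g : A ≤ _)
        (commutator_mem_commutator hv ha)
      exact ⟨hQ, mem_centralizer_iff.2 fun q hq =>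
        mem_centralizer_iff.1 (CfsgLib.PGroups.omegaOne_le _ (hV ▸ hvV : _ ∈ omegaOneCenter p (pCore p G))).2 q (sub_core_le_R hE hq)⟩
    · exact omegaOneCenter_pow (hV ▸ le_normalizer_iff_commutator_le_left.1 (fun g _ => hVn g : A ≤ _)
        (commutator_mem_commutator hv ha))
  refine commutator_le.2 fun v hv e he => ?_
  have he' := hEA he
  rw [CfsgLib.Core.mem_sup_iff_mul (hAE.trans (le_normalizer.trans (CfsgLib.LocalEven.normalizer_le_normalizer_pCoreOf E)))] at he'
  obtain ⟨a, ha, q, hq, rfl⟩ := he'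
  have hvq : q * v = v * q :=
    mem_centralizer_iff.1 (CfsgLib.PGroups.omegaOne_le _ (hV ▸ hv : v ∈ omegaOneCenter p (pCore p G))).2 q (sub_core_le_R hE hq)
  have hmem : ⁅v, a⁆ ∈ ⁅⁅V, A⁆, A⁆ := by
    rw [CfsgLib.Core.commutator_commutator_eq (fun g _ => hVn g) hcop hsol]
    exact commutator_mem_commutator hv ha
  rw [show ⁅v, a * q⁆ = ⁅v, a⁆ by
    rw [commutatorElement_def, commutatorElement_def,
      show v * (a * q) * v⁻¹ * (a * q)⁻¹ = v * a * (q * v⁻¹ * q⁻¹) * a⁻¹ by group,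
      show q * v⁻¹ * q⁻¹ = v⁻¹ by
        rw [show q * v⁻¹ * q⁻¹ = (q * v * q⁻¹)⁻¹ by group, hvq, mul_inv_cancel_right]]]
  exact commutator_mono hVA hAE hmem

end Small

end CfsgLib.LocalEvenB.SubBlocks
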