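import Cfsg.Agent.Lib.LocalEvenB.PushingUpCL.Swap
import Cfsg.Agent.Lib.LocalEven.SThree
import Cfsg.Agent.Lib.LocalEvenB.SubnormalBlocks.SubFacts

/-!
# Conjugates of blocks
-/

set_option autoImplicit false
set_option linter.all false

namespace CfsgLib.LocalEvenB.SubBlocks

open Subgroup Cfsg
open scoped commutatorElement

variable {G : Type*} [Group G]

theorem acts_map {F : Type*} [Field F] {R : Subgroup (Matrix.SpecialLinearGroup (Fin 2) F)} (e : G ≃* G)
    {E U U0 : Subgroup G} (h : ActsAsSL2OnSection F R E U U0) :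
    ActsAsSL2OnSection F R (E.map e.toMonoidHom) (U.map e.toMonoidHom) (U0.map e.toMonoidHom) := by
  obtain ⟨hn, hle, ρ, ψ, hρ, hψ, hk, hact⟩ := h
  let eE : ↥E ≃* ↥(E.map e.toMonoidHom) := E.equivMapOfInjective e.toMonoidHom e.injective
  let eU : ↥U ≃* ↥(U.map e.toMonoidHom) := U.equivMapOfInjective e.toMonoidHom e.injective
  refine ⟨(map_mono hn).trans (le_normalizer_map e.toMonoidHom), map_mono hle, ρ.comp eE.symm.toMonoidHom,
    ψ.comp eU.symm.toMonoidHom, ?_, hψ.comp eU.symm.surjective, ?_, ?_⟩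
  · rw [MonoidHom.range_comp, MonoidHom.range_eq_top.2 eE.symm.surjective, ← MonoidHom.range_eq_map, hρ]
  · intro u
    obtain ⟨v, rfl⟩ := eU.surjective u
    rw [MonoidHom.comp_apply]
    simp only [MulEquiv.coe_toMonoidHom, MulEquiv.symm_apply_apply]
    rw [hk]
    show (v : G) ∈ U0 ↔ e (v : G) ∈ U0.map e.toMonoidHom
    exact (Subgroup.mem_map_iff_mem (f := e.toMonoidHom) e.injective).symm
  · intro x u
    obtain ⟨x', rfl⟩ := eE.surjective x
    obtain ⟨v, rfl⟩ := eU.surjective u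
    obtain ⟨w, hw, hwe⟩ := hact x' v
    refine ⟨eU w, ?_, ?_⟩
    · show e (w : G) = e (x' : G) * e (v : G) * (e (x' : G))⁻¹
      rw [hw, map_mul, map_mul, map_inv]
    · simp only [MonoidHom.comp_apply, MulEquiv.coe_toMonoidHom, MulEquiv.symm_apply_apply]; exact hwe

theorem acts_alt_map {n : ℕ} {R : Subgroup (Equiv.Perm (Fin n))} (e : G ≃* G)
    {E U U0 : Subgroup G} (h : ActsAsOddPermModuleOnSection n R E U U0) :
    ActsAsOddPermModuleOnSection n R (E.map e.toMonoidHom) (U.map e.toMonoidHom) (U0.map e.toMonoidHom) := by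
  obtain ⟨hn, hle, ρ, ψ, hρ, hψe, hψs, hk, hact⟩ := h
  let eE : ↥E ≃* ↥(E.map e.toMonoidHom) := E.equivMapOfInjective e.toMonoidHom e.injective
  let eU : ↥U ≃* ↥(U.map e.toMonoidHom) := U.equivMapOfInjective e.toMonoidHom e.injective
  refine ⟨(map_mono hn).trans (le_normalizer_map e.toMonoidHom), map_mono hle, ρ.comp eE.symm.toMonoidHom,
    ψ.comp eU.symm.toMonoidHom, ?_, fun u => hψe _, ?_, ?_, ?_⟩
  · rw [MonoidHom.range_comp, MonoidHom.range_eq_top.2 eE.symm.surjective, ← MonoidHom.range_eq_map, hρ]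
  · intro v hv
    obtain ⟨u, hu⟩ := hψs v hv
    exact ⟨eU u, by simp only [MonoidHom.comp_apply, MulEquiv.coe_toMonoidHom, MulEquiv.symm_apply_apply]; exact hu⟩
  · intro u
    obtain ⟨v, rfl⟩ := eU.surjective u
    rw [MonoidHom.comp_apply]
    simp only [MulEquiv.coe_toMonoidHom, MulEquiv.symm_apply_apply]
    rw [hk]
    show (v : G) ∈ U0 ↔ e (v : G) ∈ U0.map e.toMonoidHom
    exact (Subgroup.mem_map_iff_mem (f := e.toMonoidHom) e.injective).symm
  · intro x u
    obtain ⟨x', rfl⟩ := eE.surjective x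
    obtain ⟨v, rfl⟩ := eU.surjective u
    obtain ⟨w, hw, hwe⟩ := hact x' v
    refine ⟨eU w, ?_, fun i => ?_⟩
    · show e (w : G) = e (x' : G) * e (v : G) * (e (x' : G))⁻¹
      rw [hw, map_mul, map_mul, map_inv]
    · simp only [MonoidHom.comp_apply, MulEquiv.coe_toMonoidHom, MulEquiv.symm_apply_apply]; exact hwe i

theorem frattini_map_subtype {H : Type*} [Group H] (e : G ≃* H) (X : Subgroup G) :
    ((frattini ↥X).map X.subtype).map e.toMonoidHom =
      (frattini ↥(X.map e.toMonoidHom)).map (X.map e.toMonoidHom).subtype := by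
  let eX : ↥X ≃* ↥(X.map e.toMonoidHom) := X.equivMapOfInjective e.toMonoidHom e.injective
  have h : (frattini ↥X).map eX.toMonoidHom = frattini ↥(X.map e.toMonoidHom) := by
    refine le_antisymm (map_le_iff_le_comap.2 (frattini_le_comap_frattini_of_surjective eX.surjective)) ?_
    intro y hy
    exact ⟨eX.symm y, frattini_le_comap_frattini_of_surjective (φ := eX.symm.toMonoidHom) eX.symm.surjective hy,
      eX.apply_symm_apply y⟩
  rw [← h, map_map, map_map]
  rfl

variable [Finite G] {p : ℕ} [hp : Fact p.Prime]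

theorem baumann_map_conj (S : Subgroup G) (g : G) :
    baumannSubgroupOf p (S.map (MulAut.conj g).toMonoidHom) =
      (baumannSubgroupOf p S).map (MulAut.conj g).toMonoidHom := by
  refine le_antisymm ?_ (map_baumann_le S g)
  have h := map_mono (f := (MulAut.conj g).toMonoidHom)
    (map_baumann_le (p := p) (S.map (MulAut.conj g).toMonoidHom) g⁻¹)
  rw [map_conj_map_conj, mul_inv_cancel, map_conj_map_conj, inv_mul_cancel,
    map_one, show (1 : MulAut G).toMonoidHom = MonoidHom.id G from rfl, Subgroup.map_id, Subgroup.map_id] at h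
  exact h

theorem isBaumannBlock_conj {T E : Subgroup G} (hE : IsBaumannBlock p T E) (g : G) :
    IsBaumannBlock p (T.map (MulAut.conj g).toMonoidHom) (E.map (MulAut.conj g).toMonoidHom) := by
  obtain ⟨e, he⟩ : ∃ e : G ≃* G, e = MulAut.conj g := ⟨_, rfl⟩
  have hgen := block_gen hE
  obtain ⟨h1, h2, h3, h4, h5⟩ := hE
  have hQ : pCoreOf p (E.map e.toMonoidHom) = (pCoreOf p E).map e.toMonoidHom :=
    (CfsgLib.SThree.pCoreOf_map e E).symm
  have hW : ∀ X : Subgroup G, omegaOneCenter p (X.map e.toMonoidHom) = (omegaOneCenter p X).map e.toMonoidHom :=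
    fun X => (CfsgLib.LocalEvenB.PushCL.map_omegaOneCenter p e.toMonoidHom e.injective X).symm
  have hC : centralizer ((E.map e.toMonoidHom : Subgroup G) : Set G) = (centralizer (E : Set G)).map e.toMonoidHom :=
    (map_centralizer_equiv e E).symm
  have hI : ∀ X Y : Subgroup G, X.map e.toMonoidHom ⊓ Y.map e.toMonoidHom = (X ⊓ Y).map e.toMonoidHom :=
    fun X Y => (map_inf _ _ _ e.injective).symm
  rw [← he]
  have hB : baumannSubgroupOf p (T.map e.toMonoidHom) = (baumannSubgroupOf p T).map e.toMonoidHom := by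
    rw [he]; exact baumann_map_conj T g
  have hiso : ∀ {K : Type} [Group K], Nonempty (↥E ⧸ pCore p ↥E ≃* K) →
      Nonempty (↥(E.map e.toMonoidHom) ⧸ pCore p ↥(E.map e.toMonoidHom) ≃* K) := by
    intro K _ ⟨f⟩
    let eE : ↥E ≃* ↥(E.map e.toMonoidHom) := E.equivMapOfInjective e.toMonoidHom e.injective
    exact ⟨(QuotientGroup.congr (pCore p ↥E) (pCore p ↥(E.map e.toMonoidHom)) eE
      (CfsgLib.Core.map_equiv_pCore eE)).symm.trans f⟩
  refine ⟨?_, ?_, ?_, ?_, ?_⟩
  · refine le_antisymm (map_subtype_le _) ?_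
    conv_lhs => rw [← hgen, MonoidHom.map_closure]
    rw [closure_le]
    rintro _ ⟨x, ⟨hx, hxc⟩, rfl⟩
    refine ⟨⟨e.toMonoidHom x, mem_map_of_mem _ hx⟩, CfsgLib.Transfer.pResidual_le_iff.1 le_rfl _ ?_, rfl⟩
    rwa [Subgroup.orderOf_mk, orderOf_injective e.toMonoidHom e.injective]
  · rw [hB, ← map_commutator, h2]
  · rw [hQ, ← map_commutator, h3]
  · rw [hW, ← map_commutator]
    exact fun h => h4 ((map_eq_bot_iff_of_injective _ e.injective).1 h)
  · rw [hB, hQ, hW, hC]
    simp only [hI]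
    rcases h5 with ⟨F, i1, i2, n, hc, hi, hA, hl | ⟨e3, hA2, hcc, hfr, hcE, hc3, hb⟩⟩ | ⟨hp2, m, hi, hA, hl⟩
    · exact Or.inl ⟨F, i1, i2, n, hc, hiso hi, acts_map e hA, Or.inl (congrArg (Subgroup.map e.toMonoidHom) hl)⟩
    · refine Or.inl ⟨F, i1, i2, n, hc, hiso hi, acts_map e hA, Or.inr ⟨e3, acts_map e hA2, ?_, ?_, ?_, ?_, ?_⟩⟩
      · rw [← map_commutator, hcc]
      · rw [← frattini_map_subtype e, hfr]
      · rw [hcE]
      · rw [card_map_of_injective e.injective, hc3]
      · rintro _ ⟨b, hb', rfl⟩ hbc hle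
        refine hb b hb' (fun h => hbc ?_) ?_
        · rw [← map_centralizer_equiv e]
          exact mem_map_of_mem _ h
        · have h' : ((⁅⁅pCoreOf p E, zpowers b⁆, zpowers b⁆).map e.toMonoidHom) ≤
              (E ⊓ centralizer (E : Set G)).map e.toMonoidHom := by
            rwa [map_commutator, map_commutator, MonoidHom.map_zpowers]
          exact (map_le_map_iff_of_injective e.injective).1 h'
    · exact Or.inr ⟨hp2, m, hiso hi, acts_alt_map e hA, congrArg (Subgroup.map e.toMonoidHom) hl⟩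

theorem isSubBlock_conj {E : Subgroup G} (hE : IsSubBlock p E) (g : G) :
    IsSubBlock p (E.map (MulAut.conj g).toMonoidHom) := by
  obtain ⟨⟨T, hT⟩, hs⟩ := hE
  exact ⟨⟨g • T, isBaumannBlock_conj hT g⟩, hs.map (MulAut.conj g).surjective⟩

theorem bM_conj (E : Subgroup G) (g : G) :
    bM p (E.map (MulAut.conj g).toMonoidHom) = (bM p E).map (MulAut.conj g).toMonoidHom := by
  rw [map_commutator]
  show ⁅omegaOneCenter p (pCoreOf p (E.map (MulAut.conj g).toMonoidHom)), _⁆ = _
  rw [← CfsgLib.SThree.pCoreOf_map (MulAut.conj g) E,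
    ← CfsgLib.LocalEvenB.PushCL.map_omegaOneCenter p _ (MulAut.conj g).injective]

end CfsgLib.LocalEvenB.SubBlocks
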